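import Cfsg.Agent.H147.SzCover
import Cfsg.Agent.H98.SzBasic
import Cfsg.Agent.OddCyclic.ClaimC.SzIso

/-!
# The semisimple elements of the Suzuki groups are inverted by involutions
-/

set_option autoImplicit false

namespace Cfsg.Agent.H147.Sz

open scoped MatrixGroups Matrix
open Cfsg.Agent.LieExceptional
open Cfsg.Agent.LieRecognition.SzMatrix (Good good theta Umat_def theta_ne_zero)
open Cfsg.Agent.OddCyclic.ClaimC.SzIso (jj jj_val jj_injective range_eq)

variable {F : Type*} [Field F] [Fintype F] {m : ℕ}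

/-- a fixed-point-free element is inverted by an involution -/
theorem free_real (hm : 1 ≤ m) (hF : Fintype.card F = 2 ^ (2 * m + 1)) {g : Cfsg.Sz F m}
    (hg : g ∈ SuzukiTori.Hyp.free (Cfsg.Sz F m) (Cfsg.suzukiOvoid F m)) :
    g * g ≠ 1 ∧ ∃ i : Cfsg.Sz F m, i ≠ 1 ∧ i * i = 1 ∧ i * g * i = g⁻¹ := by
  have := H98.SzBasic.finite_ovoid F m
  have HH := SuzukiHyp.hyp hm hF
  have hg1 : g ≠ 1 := fun h => HH.one_notMem_free (h ▸ hg)
  have not2 : ∀ x ∈ SuzukiTori.Hyp.free (Cfsg.Sz F m) (Cfsg.suzukiOvoid F m), x * x ≠ 1 := by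
    intro x hx h
    have hodd := HH.odd_of_free hx
    have h1 : orderOf x ∣ 2 := orderOf_dvd_of_pow_eq_one (by rw [pow_two, h])
    rcases (Nat.dvd_prime Nat.prime_two).1 h1 with h2 | h2
    · exact HH.one_notMem_free (orderOf_eq_one_iff.1 h2 ▸ hx)
    · rw [h2] at hodd
      exact absurd hodd (by decide)
  refine ⟨not2 g hg, ?_⟩
  -- a torus containing a conjugate of `g`, with normaliser of even order
  obtain ⟨g₁, hg₁, hn4, y, hy⟩ : ∃ g₁ ∈ SuzukiTori.Hyp.free (Cfsg.Sz F m) (Cfsg.suzukiOvoid F m),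
      2 ∣ Nat.card (Subgroup.normalizer ((Subgroup.centralizer ({g₁} : Set (Cfsg.Sz F m)) :
        Subgroup (Cfsg.Sz F m)) : Set (Cfsg.Sz F m))) ∧
      ∃ y : Cfsg.Sz F m, y⁻¹ * g * y ∈ Subgroup.centralizer ({g₁} : Set (Cfsg.Sz F m)) := by
    have h1 := H98.SzBasic.card_centralizer_free hm hF hg
    obtain ⟨p, k, hp, hpq, hk⟩ := HH.exists_prime_pow hg
    have hpc : p ∣ Nat.card (Subgroup.centralizer ({g} : Set (Cfsg.Sz F m))) := by
      rw [← hk]
      exact Subgroup.orderOf_dvd_natCard _ (Subgroup.mem_centralizer_singleton_iff.2 (Commute.self_pow g k).symm)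
    obtain ⟨g₁, hg₁, hc, hn⟩ := HH.exists_tori rfl _ h1
    obtain ⟨-, y, hy⟩ := HH.mem_tset_of_dvd hg₁ hg hp (by rw [hc]; exact hpc) hpc
    exact ⟨g₁, hg₁, by rw [hn]; exact Dvd.dvd.mul_right (by norm_num) _, y, hy⟩
  set C := Subgroup.centralizer ({g₁} : Set (Cfsg.Sz F m)) with hC
  have : Fact (Nat.Prime 2) := ⟨Nat.prime_two⟩
  obtain ⟨⟨i, hiN⟩, hi⟩ := exists_prime_orderOf_dvd_card' 2 hn4
  have hi' : orderOf i = 2 := by
    rw [← hi]
    exact (Subgroup.orderOf_mk i hiN).symm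
  have hii : i * i = 1 := by
    rw [← pow_two, ← hi', pow_orderOf_eq_one]
  have hi1 : i ≠ 1 := by
    rintro rfl
    rw [orderOf_one] at hi'
    omega
  have hinv : i⁻¹ = i := inv_eq_of_mul_eq_one_left hii
  have hnotfree : i ∉ SuzukiTori.Hyp.free (Cfsg.Sz F m) (Cfsg.suzukiOvoid F m) := fun h => not2 i h hii
  have hcomm := HH.comm_of_free hg₁
  have hinvC : ∀ c ∈ C, i * c * i = c⁻¹ := by
    intro c hc
    have h1 : i * c * i ∈ C := by
      have := (Subgroup.mem_normalizer_iff.1 hiN c).1 hc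
      rwa [hinv] at this
    have h2 : c * (i * c * i) ∈ C := mul_mem hc h1
    by_cases h3 : c * (i * c * i) = 1
    · exact (inv_eq_of_mul_eq_one_right h3).symm
    · exfalso
      have h4 := HH.centralizer_eq hg₁ h2 h3
      have h5 : i ∈ Subgroup.centralizer ({c * (i * c * i)} : Set (Cfsg.Sz F m)) := by
        rw [Subgroup.mem_centralizer_singleton_iff]
        calc i * (c * (i * c * i)) = (i * c * i) * (i * i) * c * i := by
              rw [hii, mul_one, ← mul_assoc i c, ← mul_assoc, ← mul_assoc]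
          _ = (i * c * i) * c * i := by rw [hii, mul_one]
          _ = c * (i * c * i) * i := by rw [hcomm _ h1 _ hc]
      rw [h4] at h5
      exact hnotfree (HH.free_of_mem hg₁ h5 hi1)
  refine ⟨y * i * y⁻¹, ?_, ?_, ?_⟩
  · intro h
    apply hi1
    have : i = y⁻¹ * (y * i * y⁻¹) * y := by group
    rw [this, h]
    group
  · have : y * i * y⁻¹ * (y * i * y⁻¹) = y * (i * i) * y⁻¹ := by group
    rw [this, hii]
    group
  · have : y * i * y⁻¹ * g * (y * i * y⁻¹) = y * (i * (y⁻¹ * g * y) * i) * y⁻¹ := by group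
    rw [this, hinvC _ hy]
    group

/-- the isomorphism between the two models, as an injective homomorphism -/
noncomputable def lift (hm : 1 ≤ m) (hF : Fintype.card F = 2 ^ (2 * m + 1)) :
    Cfsg.Sz F m →* ↥(Cfsg.Lie.Sz F (2 ^ (m + 1))) :=
  (jj F m).codRestrict _ (fun g => by rw [range_eq hm hF]; exact ⟨g, rfl⟩)

theorem lift_val (hm : 1 ≤ m) (hF : Fintype.card F = 2 ^ (2 * m + 1)) (g : Cfsg.Sz F m) :
    (lift hm hF g).1 = jj F m g := rfl

theorem lift_injective (hm : 1 ≤ m) (hF : Fintype.card F = 2 ^ (2 * m + 1)) :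
    Function.Injective (lift hm hF) := by
  intro g h hgh
  exact jj_injective (congrArg Subtype.val hgh)

theorem lift_surjective (hm : 1 ≤ m) (hF : Fintype.card F = 2 ^ (2 * m + 1)) :
    Function.Surjective (lift hm hF) := by
  rintro ⟨g, hg⟩
  rw [range_eq hm hF] at hg
  obtain ⟨g0, h⟩ := hg
  exact ⟨g0, Subtype.ext h⟩

theorem lift_u (hm : 1 ≤ m) (hF : Fintype.card F = 2 ^ (2 * m + 1)) (a b : F) :
    lift hm hF (SuzukiSylow.u hF a b) = (good hF).u a (b + a * theta hF a) := by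
  have hg := good hF
  apply Subtype.ext
  apply Units.ext
  rw [lift_val, jj_val, Good.u_val, Good.U_val, Umat_def]
  change ((SuzukiBasic.U m a b : SL(4, F)) : Matrix (Fin 4) (Fin 4) F) = _
  rw [SuzukiBasic.U_coe, SuzukiBasic.zc_def]
  have h2 := hg.two
  have hp : ∀ x : F, x ^ 2 ^ (m + 1) = theta hF x := hg.pow
  have e1 : a ^ (2 ^ (m + 1) + 1) = theta hF a * a := by rw [pow_succ, hp]
  have e2 : a ^ (2 ^ (m + 1) + 2) = theta hF a * a ^ 2 := by rw [pow_add, hp]
  rw [e1, e2, hp, hp, map_add, map_mul, hg.sq]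
  ext i j
  fin_cases i <;> fin_cases j <;> simp
  · ring
  · linear_combination (-(a ^ 2 * theta hF a)) * h2
  · linear_combination (-(a * theta hF a)) * h2

theorem real (hm : 1 ≤ m) (hF : Fintype.card F = 2 ^ (2 * m + 1)) : Real (good hF) := by
  intro g hg
  obtain ⟨g0, rfl⟩ := lift_surjective hm hF g
  have hg0 : g0 ≠ 1 := by
    rintro rfl
    exact hg (map_one _)
  have key : ∀ g0 : Cfsg.Sz F m, (g0 * g0 ≠ 1 ∧ ∃ i : Cfsg.Sz F m, i ≠ 1 ∧ i * i = 1 ∧ i * g0 * i = g0⁻¹) →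
      (lift hm hF g0 * lift hm hF g0 ≠ 1 ∧ ∃ i : ↥(Cfsg.Lie.Sz F (2 ^ (m + 1))), i ≠ 1 ∧ i * i = 1 ∧
        i * lift hm hF g0 * i = (lift hm hF g0)⁻¹) := by
    rintro g0 ⟨h1, i, h2, h3, h4⟩
    refine ⟨?_, lift hm hF i, ?_, ?_, ?_⟩
    · rw [← map_mul]
      intro h
      exact h1 (lift_injective hm hF (by rw [h, map_one]))
    · intro h
      exact h2 (lift_injective hm hF (by rw [h, map_one]))
    · rw [← map_mul, h3, map_one]
    · rw [← map_mul, ← map_mul, h4, map_inv]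
  rcases H98.SzBasic.trichotomy hm hF hg0 with h | ⟨y, k, hk, h⟩ | ⟨y, a, b, hab, h⟩
  · exact Or.inl (key g0 (free_real hm hF h))
  · refine Or.inl (key g0 ⟨?_, y⁻¹ * H98.SzBasic.w hF * y, ?_, ?_, ?_⟩)
    · intro h1
      have h2 : (y * g0 * y⁻¹) * (y * g0 * y⁻¹) = 1 := by
        calc (y * g0 * y⁻¹) * (y * g0 * y⁻¹) = y * (g0 * g0) * y⁻¹ := by group
          _ = 1 := by rw [h1]; group
      rw [h, ← H98.SzBasic.h_mul, ← H98.SzBasic.h_one hF, H98.SzBasic.h_eq_iff hF] at h2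
      exact hk (unit_sq_eq_one (good hF) h2)
    · intro h1
      have h2 : H98.SzBasic.w hF = (1 : Cfsg.Sz F m) := by
        calc H98.SzBasic.w hF = y * (y⁻¹ * H98.SzBasic.w hF * y) * y⁻¹ := by group
          _ = 1 := by rw [h1]; group
      have h3 := congrArg (lift hm hF) h2
      rw [map_one] at h3
      have h4 : lift hm hF (H98.SzBasic.w hF) = (good hF).w := by
        apply Subtype.ext
        apply Units.ext
        rfl
      rw [h4] at h3
      exact (good hF).w_not_mem_borel (h3 ▸ one_mem _)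
    · calc y⁻¹ * H98.SzBasic.w hF * y * (y⁻¹ * H98.SzBasic.w hF * y) =
          y⁻¹ * (H98.SzBasic.w hF * H98.SzBasic.w hF) * y := by group
        _ = 1 := by rw [H98.SzBasic.w_mul_w]; group
    · calc y⁻¹ * H98.SzBasic.w hF * y * g0 * (y⁻¹ * H98.SzBasic.w hF * y) =
          y⁻¹ * (H98.SzBasic.w hF * (y * g0 * y⁻¹) * H98.SzBasic.w hF) * y := by group
        _ = y⁻¹ * (y * g0 * y⁻¹)⁻¹ * y := by
          rw [h, H98.SzBasic.w_mul_h, mul_assoc (H98.SzBasic.h hF k⁻¹), H98.SzBasic.w_mul_w, mul_one,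
            H98.SzBasic.h_inv]
        _ = g0⁻¹ := by group
  · right
    refine ⟨a, b + a * theta hF a, isConj_iff.2 ⟨lift hm hF y, ?_⟩⟩
    rw [← map_mul, ← map_inv, ← map_mul, h, lift_u]

end Cfsg.Agent.H147.Sz
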