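import Cfsg.Agent.H147.SzField

/-!
# Conjugacy classes and traces in the Suzuki groups
-/

set_option autoImplicit false

namespace Cfsg.Agent.H147.Sz

open Cfsg.Agent.LieRecognition.SzMatrix
open scoped Matrix

variable {F : Type*} [Field F] {θ : F →+* F} {e : ℕ}

/-- the trace -/
def tr (g : ↥(Cfsg.Lie.Sz F e)) : F := (g.1.1 : Matrix (Fin 4) (Fin 4) F).trace

theorem tr_mul_comm (g h : ↥(Cfsg.Lie.Sz F e)) : tr (g * h) = tr (h * g) := by
  unfold tr
  exact Matrix.trace_mul_comm g.1.1 h.1.1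

theorem tr_conj (x g : ↥(Cfsg.Lie.Sz F e)) : tr (x * g * x⁻¹) = tr g := by
  rw [tr_mul_comm, ← mul_assoc, inv_mul_cancel, one_mul]

theorem tr_of_isConj {g h : ↥(Cfsg.Lie.Sz F e)} (hc : IsConj g h) : tr g = tr h := by
  obtain ⟨x, rfl⟩ := isConj_iff.1 hc
  rw [tr_conj]

theorem tr_sq (h2 : (2 : F) = 0) (g : ↥(Cfsg.Lie.Sz F e)) : tr (g * g) = tr g ^ 2 := by
  have : tr (g * g) = (g.1.1 * g.1.1 : Matrix (Fin 4) (Fin 4) F).trace := rfl
  rw [this]
  unfold tr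
  simp only [Matrix.trace, Matrix.diag_apply, Matrix.mul_apply, Fin.sum_univ_four]
  generalize g.1.1 = M
  linear_combination (M 0 1 * M 1 0 + M 0 2 * M 2 0 + M 0 3 * M 3 0 + M 1 2 * M 2 1 + M 1 3 * M 3 1
    + M 2 3 * M 3 2 - M 0 0 * M 1 1 - M 0 0 * M 2 2 - M 0 0 * M 3 3 - M 1 1 * M 2 2 - M 1 1 * M 3 3
    - M 2 2 * M 3 3) * h2

theorem tr_u (H : Good F θ e) (a b : F) : tr (H.u a b) = 0 := by
  unfold tr
  rw [H.u_val, H.U_val, Umat_def]
  simp [Matrix.trace, Fin.sum_univ_four]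
  linear_combination 2 * H.two

theorem tr_wud (H : Good F θ e) (a b : F) (k : Fˣ) : tr (H.w * H.u a b * H.d k) =
    θ a * k * (θ k)⁻¹ + (a * b + a ^ 2 * θ a + θ b) * (k : F)⁻¹ := by
  have : tr (H.w * H.u a b * H.d k) = (J F * Umat θ a b * Dmat θ k).trace := rfl
  rw [this, Umat_def, Dmat_def]
  simp [J, Matrix.trace, Fin.sum_univ_four]
  ring

theorem tr_wu (H : Good F θ e) (a b : F) : tr (H.w * H.u a b) =
    θ a + (a * b + a ^ 2 * θ a + θ b) := by
  have := tr_wud H a b 1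
  rw [H.d_one, mul_one] at this
  rw [this]
  simp

theorem tr_wuwu (H : Good F θ e) (a b c d : F) : tr (H.w * H.u a b * H.w * H.u c d) =
    a * θ a * d + b * c * θ c + θ a * θ c +
      (a * b + a ^ 2 * θ a + θ b) * (c * d + c ^ 2 * θ c + θ d) := by
  have : tr (H.w * H.u a b * H.w * H.u c d) = (J F * Umat θ a b * J F * Umat θ c d).trace := rfl
  rw [this, Umat_def, Umat_def]
  simp [J, Matrix.trace, Fin.sum_univ_four]
  linear_combination (2 + b * d + a * c) * H.two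

theorem tr_1wd (H : Good F θ e) (k : Fˣ) : tr (H.u 0 1 * H.w * H.d k) = k := by
  have h1 : H.u 0 1 * H.w * H.d k = H.u 0 1 * (H.w * H.d k) := mul_assoc _ _ _
  rw [h1, tr_mul_comm, mul_assoc, H.d_mul_u, ← mul_assoc, tr_wud]
  have := k.ne_zero
  simp only [map_zero, map_mul, H.sq, map_one]
  field_simp
  ring

/-! ### conjugations -/

theorem d_conj_u (H : Good F θ e) (k : Fˣ) (a b : F) :
    H.d k * H.u a b * (H.d k)⁻¹ = H.u (a * k ^ 2 * (θ k)⁻¹) (b * θ k) := by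
  rw [H.d_mul_u, mul_inv_cancel_right]

theorem isConj_u_one [Finite F] (H : Good F θ e) {P : F} (hP : P ≠ 0) (b : F) :
    IsConj (H.u P (P * θ P * b)) (H.u 1 b) := by
  obtain ⟨s, hs⟩ := theta_surj (θ := θ) P
  have hs0 : s ≠ 0 := by
    rintro rfl
    rw [map_zero] at hs
    exact hP hs.symm
  have hθP : θ P ≠ 0 := by rwa [map_ne_zero]
  refine (isConj_iff.2 ⟨H.d (Units.mk0 (s * P) (mul_ne_zero hs0 hP)), ?_⟩).symm
  rw [d_conj_u, Units.val_mk0, map_mul, hs]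
  congr 1
  · have h2 : s ^ 2 = θ P := by rw [← H.sq, hs]
    rw [mul_pow, h2]
    field_simp
  · ring

theorem isConj_u_zero [Finite F] (H : Good F θ e) {b : F} (hb : b ≠ 0) :
    IsConj (H.u 0 b) (H.u 0 1) := by
  obtain ⟨s, hs⟩ := theta_surj (θ := θ) b
  have hs0 : s ≠ 0 := by
    rintro rfl
    rw [map_zero] at hs
    exact hb hs.symm
  refine (isConj_iff.2 ⟨H.d (Units.mk0 s hs0), ?_⟩).symm
  rw [d_conj_u, Units.val_mk0, hs]
  simp

theorem isConj_one_of_mem (H : Good F θ e) {b b' : F} (h : b + b' ∈ A θ) :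
    IsConj (H.u 1 b) (H.u 1 b') := by
  obtain ⟨c, hc⟩ := h
  have hc : c + θ c = b + b' := hc
  refine isConj_iff.2 ⟨H.u c 0, ?_⟩
  rw [mul_inv_eq_iff_eq_mul, H.u_mul, H.u_mul, map_one]
  congr 1
  · ring
  · linear_combination hc + (b - θ c) * H.two

/-- normal form of the elements off the Borel subgroup -/
theorem exists_wb (H : Good F θ e) {g : ↥(Cfsg.Lie.Sz F e)} (hg : g ∉ H.borel) :
    ∃ s ∈ H.unip, ∃ (p q : F) (l : Fˣ), s⁻¹ * g * s = H.w * (H.u p q * H.d l) := by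
  obtain ⟨s, hs, hb⟩ := H.bruhat_sz g hg
  obtain ⟨p, q, l, hpq⟩ := (H.mem_borel_iff' _).1 (mul_mem hb (H.unip_le_borel hs))
  refine ⟨s, hs, p, q, l, ?_⟩
  rw [← hpq, _root_.mul_inv_rev, H.w_inv]
  simp only [← mul_assoc]
  rw [H.w_mul_w, one_mul]

/-- involutions off the Borel subgroup -/
theorem invol_off (H : Good F θ e) {g : ↥(Cfsg.Lie.Sz F e)} (hg : g ∉ H.borel) (hg2 : g * g = 1) :
    ∃ s ∈ H.unip, ∃ l : Fˣ, s⁻¹ * g * s = H.w * H.d l := by
  obtain ⟨s, hs, p, q, l, h⟩ := exists_wb H hg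
  refine ⟨s, hs, l, ?_⟩
  have h1 : (s⁻¹ * g * s) * (s⁻¹ * g * s) = 1 := by
    calc (s⁻¹ * g * s) * (s⁻¹ * g * s) = s⁻¹ * (g * g) * s := by group
      _ = 1 := by rw [hg2]; group
  rw [h] at h1
  have h2 : H.w⁻¹ * H.u p q * H.w = (H.u p q * H.d l)⁻¹ * H.d l := by
    have h3 : H.w * (H.u p q * H.d l) * H.w = (H.u p q * H.d l)⁻¹ := by
      rw [eq_inv_iff_mul_eq_one]
      calc H.w * (H.u p q * H.d l) * H.w * (H.u p q * H.d l) =
          H.w * (H.u p q * H.d l) * (H.w * (H.u p q * H.d l)) := by group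
        _ = 1 := h1
    rw [← h3, H.w_inv]
    have h4 : H.d l * H.w = H.w * H.d l⁻¹ := by
      rw [H.w_mul_d, inv_inv]
    calc H.w * H.u p q * H.w = H.w * H.u p q * H.w * (H.d l⁻¹ * H.d l) := by
          rw [H.d_mul, inv_mul_cancel, H.d_one, mul_one]
      _ = H.w * H.u p q * (H.w * H.d l⁻¹) * H.d l := by group
      _ = H.w * H.u p q * (H.d l * H.w) * H.d l := by rw [h4]
      _ = _ := by group
  have h3 : H.u p q = 1 := by
    apply H.inter_trivial _ (H.u_mem_unip p q)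
    rw [h2]
    exact mul_mem (inv_mem (mul_mem (H.u_mem_borel p q) (H.d_mem_borel l))) (H.d_mem_borel l)
  rw [h, h3, one_mul]

theorem unit_sq_eq_one (H : Good F θ e) {k : Fˣ} (h : k * k = 1) : k = 1 := by
  apply Units.ext
  have h1 : (k : F) * k = 1 := congrArg Units.val h
  have h2 : ((k : F) - 1) ^ 2 = 0 := by linear_combination h1 + (1 - (k : F)) * H.two
  have := pow_eq_zero_iff (two_ne_zero) |>.mp h2
  rw [Units.val_one]
  linear_combination this

/-- involutions in the Borel subgroup -/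
theorem invol_borel (H : Good F θ e) {g : ↥(Cfsg.Lie.Sz F e)} (hg : g ∈ H.borel) (hg2 : g * g = 1) :
    ∃ b : F, g = H.u 0 b := by
  obtain ⟨a, b, k, rfl⟩ := (H.mem_borel_iff' _).1 hg
  have h1 : H.u a b * H.u (a * k ^ 2 * (θ k)⁻¹) (b * θ k) * H.d (k * k) = H.u 0 0 * H.d 1 := by
    rw [H.u_zero, H.d_one, mul_one, ← hg2, ← H.d_mul]
    calc _ = H.u a b * (H.u (a * k ^ 2 * (θ k)⁻¹) (b * θ k) * H.d k) * H.d k := by group
      _ = H.u a b * (H.d k * H.u a b) * H.d k := by rw [H.d_mul_u]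
      _ = _ := by group
  rw [H.u_mul] at h1
  obtain ⟨-, h3, h4⟩ := H.u_mul_d_inj h1
  have hk := unit_sq_eq_one H h4
  subst hk
  have ha : a = 0 := by
    simp only [Units.val_one, map_one, inv_one, mul_one, one_pow] at h3
    have h5 : a * θ a = 0 := by linear_combination h3 - b * H.two
    rcases mul_eq_zero.1 h5 with h6 | h6
    · exact h6
    · rwa [map_eq_zero] at h6
  refine ⟨b, ?_⟩
  rw [ha, H.d_one, mul_one]

theorem exists_sq [Finite F] (H : Good F θ e) (x : F) : ∃ y, y ^ 2 = x := by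
  obtain ⟨y, hy⟩ := theta_surj (θ := θ) x
  obtain ⟨z, hz⟩ := theta_surj (θ := θ) y
  exact ⟨z, by rw [← H.sq, hz, hy]⟩

/-- `w` is conjugate to an element of the root group -/
theorem isConj_w_mem (H : Good F θ e) : ∃ b : F, IsConj H.w (H.u 0 b) := by
  -- `w` fixes the point `u 1 0 w ∞`
  have h1 : (H.u 1 0 * H.w)⁻¹ * H.w * (H.u 1 0 * H.w) ∈ H.borel := by
    rw [H.mem_borel]
    have h2 : (((H.u 1 0 * H.w)⁻¹ * H.w * (H.u 1 0 * H.w) : ↥(Cfsg.Lie.Sz F e)).1 : GL (Fin 4) F).1 =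
        J F * (Umat θ 1 (0 + 1 * θ 1)) * J F * (Umat θ 1 0 * J F) := by
      rw [_root_.mul_inv_rev, H.w_inv, H.u_inv]
      rfl
    rw [h2, Umat_def, Umat_def]
    simp [J, Matrix.mul_apply, Fin.sum_univ_four]
    linear_combination 3 * H.two
  obtain ⟨b, hb⟩ := invol_borel H h1 (by
    calc (H.u 1 0 * H.w)⁻¹ * H.w * (H.u 1 0 * H.w) * ((H.u 1 0 * H.w)⁻¹ * H.w * (H.u 1 0 * H.w)) =
        (H.u 1 0 * H.w)⁻¹ * (H.w * H.w) * (H.u 1 0 * H.w) := by group
      _ = 1 := by rw [H.w_mul_w]; group)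
  refine ⟨b, ?_⟩
  rw [← hb]
  refine isConj_iff.2 ⟨(H.u 1 0 * H.w)⁻¹, ?_⟩
  rw [inv_inv]

theorem u_eq_one_iff (H : Good F θ e) {a b : F} : H.u a b = 1 ↔ a = 0 ∧ b = 0 := by
  rw [← H.u_zero]
  exact ⟨fun h => H.u_inj h, fun ⟨h1, h2⟩ => by rw [h1, h2]⟩

/-- all involutions are conjugate -/
theorem isConj_invol [Finite F] (H : Good F θ e) {g : ↥(Cfsg.Lie.Sz F e)} (hg1 : g ≠ 1) (hg2 : g * g = 1) :
    IsConj g (H.u 0 1) := by
  by_cases hg : g ∈ H.borel
  · obtain ⟨b, rfl⟩ := invol_borel H hg hg2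
    apply isConj_u_zero H
    rintro rfl
    exact hg1 H.u_zero
  · obtain ⟨s, -, l, h⟩ := invol_off H hg hg2
    have h1 : IsConj g (H.w * H.d l) := isConj_iff.2 ⟨s⁻¹, by rw [inv_inv]; exact h⟩
    obtain ⟨y, hy⟩ := exists_sq H (l : F)
    have hy0 : y ≠ 0 := by
      rintro rfl
      apply l.ne_zero
      rw [← hy]
      ring
    have h2 : IsConj (H.w * H.d l) H.w := by
      refine isConj_iff.2 ⟨H.d (Units.mk0 y hy0), ?_⟩
      have e1 : l = Units.mk0 y hy0 * Units.mk0 y hy0 := by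
        apply Units.ext
        rw [Units.val_mul, Units.val_mk0, ← hy]
        ring
      have e2 : H.d (Units.mk0 y hy0) * H.w = H.w * H.d (Units.mk0 y hy0)⁻¹ := by
        rw [H.w_mul_d, inv_inv]
      rw [← mul_assoc, e2, mul_assoc, mul_assoc, H.d_inv, H.d_mul, H.d_mul, e1]
      have e3 : (Units.mk0 y hy0)⁻¹ * (Units.mk0 y hy0 * Units.mk0 y hy0 * (Units.mk0 y hy0)⁻¹) = 1 := by
        group
      rw [e3, H.d_one, mul_one]
    obtain ⟨b, hb⟩ := isConj_w_mem H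
    have h3 : IsConj (H.u 0 b) (H.u 0 1) := by
      apply isConj_u_zero H
      rintro rfl
      rw [H.u_zero] at hb
      have := isConj_one_right.1 hb.symm
      exact H.w_not_mem_borel (this ▸ one_mem _)
    exact ((h1.trans h2).trans hb).trans h3

/-- products of two involutions -/
theorem strongly_real [Finite F] (H : Good F θ e) {g i : ↥(Cfsg.Lie.Sz F e)} (hg2 : g * g ≠ 1) (hi1 : i ≠ 1)
    (hi2 : i * i = 1) (hig : i * g * i = g⁻¹) : ∃ k : Fˣ, IsConj g (H.u 0 1 * H.w * H.d k) := by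
  obtain ⟨x, hx⟩ := isConj_iff.1 (isConj_invol H hi1 hi2)
  -- replace `g` by `x g x⁻¹`
  set g' := x * g * x⁻¹ with hg'
  set j := H.u 0 1 * g' with hj
  have hu2 : H.u 0 1 * H.u 0 1 = 1 := by
    rw [H.u_mul, ← H.u_zero]
    congr 1
    · ring
    · rw [map_zero]; linear_combination H.two
  have hinv : H.u 0 1 * g' * H.u 0 1 = g'⁻¹ := by
    rw [← hx, hg']
    have : x * i * x⁻¹ * (x * g * x⁻¹) * (x * i * x⁻¹) = x * (i * g * i) * x⁻¹ := by group
    rw [this, hig]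
    group
  have hj2 : j * j = 1 := by
    rw [hj]
    calc H.u 0 1 * g' * (H.u 0 1 * g') = (H.u 0 1 * g' * H.u 0 1) * g' := by group
      _ = 1 := by rw [hinv]; group
  have hg'j : g' = H.u 0 1 * j := by
    rw [hj, ← mul_assoc, hu2, one_mul]
  have hg'2 : g' * g' ≠ 1 := by
    intro h
    apply hg2
    have : g' * g' = x * (g * g) * x⁻¹ := by rw [hg']; group
    rw [this] at h
    calc g * g = x⁻¹ * (x * (g * g) * x⁻¹) * x := by group
      _ = 1 := by rw [h]; group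
  have hgg' : IsConj g g' := isConj_iff.2 ⟨x, rfl⟩
  by_cases hjb : j ∈ H.borel
  · exfalso
    obtain ⟨b, hb⟩ := invol_borel H hjb hj2
    apply hg'2
    rw [hg'j, hb, H.u_mul, H.u_mul, ← H.u_zero]
    congr 1
    · ring
    · simp only [map_zero, add_zero, mul_zero]
      linear_combination (1 + b) * H.two
  · obtain ⟨s, hs, l, h⟩ := invol_off H hjb hj2
    refine ⟨l, hgg'.trans (isConj_iff.2 ⟨s⁻¹, ?_⟩)⟩
    rw [inv_inv, hg'j]
    obtain ⟨a, b, rfl⟩ := (H.mem_unip_iff s).1 hs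
    have hcomm : H.u 0 1 * H.u a b = H.u a b * H.u 0 1 := by
      rw [H.u_mul, H.u_mul]
      congr 1
      · ring
      · simp only [map_zero, mul_zero, zero_mul]
        ring
    calc (H.u a b)⁻¹ * (H.u 0 1 * j) * H.u a b =
        (H.u a b)⁻¹ * (H.u 0 1 * H.u a b) * ((H.u a b)⁻¹ * j * H.u a b) := by group
      _ = H.u 0 1 * (H.w * H.d l) := by rw [hcomm, h]; group
      _ = _ := by group

end Cfsg.Agent.H147.Sz
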