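import Cfsg.Agent.H147.ReeChar

/-!
# Small Ree groups: every nonidentity element is a product of two conjugates of `x`
-/

set_option autoImplicit false
set_option linter.unusedSectionVars false

namespace Cfsg.Agent.H147.ReeEnd

open Cfsg Subgroup
open Cfsg.Agent.LieRecognition Cfsg.Agent.LieRecognition.ReeAbs
open Cfsg.Agent.H147.ReeCls Cfsg.Agent.H147.ReeSq

universe u

variable {K : Type*} [Field K] [Fintype K] {G : Type u} [Group G] {m : ℕ}
  {U : K → K → K → G} {h : Kˣ → G} {n : G}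

theorem card_cube (K : Type*) [Field K] [Fintype K] : Nat.card {c : K // c ^ 3 = c} ≤ 3 := by
  classical
  rw [Nat.card_eq_fintype_card, Fintype.card_subtype]
  have h1 : (Finset.univ.filter fun c : K => c ^ 3 = c) ⊆ {0, 1, -1} := by
    intro c hc
    rw [Finset.mem_filter] at hc
    have h2 : c * ((c - 1) * (c + 1)) = 0 := by linear_combination hc.2
    simp only [Finset.mem_insert, Finset.mem_singleton]
    rcases mul_eq_zero.1 h2 with h3 | h3
    · exact Or.inl h3
    · rcases mul_eq_zero.1 h3 with h4 | h4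
      · exact Or.inr (Or.inl (sub_eq_zero.1 h4))
      · exact Or.inr (Or.inr (eq_neg_of_add_eq_zero_left h4))
  exact (Finset.card_le_card h1).trans Finset.card_le_three

/-- centralisers of the regular unipotent elements -/
theorem cent_t [Finite G] (D : Data m U h n) (hK : Fintype.card K = 3 ^ (2 * m + 1)) {t u v : K} (ht : t ≠ 0) :
    Nat.card (centralizer {U t u v} : Subgroup G) ≤ 3 * 3 ^ (2 * m + 1) := by
  have h3 : (3 : K) = 0 := by
    have := charP_three hK
    exact CharP.cast_eq_zero K 3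
  have hne : U t u v ≠ 1 := by
    rw [← D.U_zero]
    intro h1
    exact ht (ReeSylowThree.U_injective D h1).1
  have key : ∀ y : (centralizer {U t u v} : Subgroup G), ∃ t' u' v', (y : G) = U t' u' v' ∧
      (t' * t⁻¹) ^ 3 = t' * t⁻¹ ∧
      u' * t = v' + v - t' ^ 2 * t ^ (3 ^ (m + 1)) + t' * t * t ^ (3 ^ (m + 1)) -
        (v + v' - u * t' - t ^ 2 * t' ^ (3 ^ (m + 1)) + t * t' * t' ^ (3 ^ (m + 1))) := by
    rintro ⟨y, hy⟩
    rw [mem_centralizer_singleton_iff] at hy
    have hyU : y ∈ ReeSylowThree.uSub D := by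
      rcases ReeSplit.mem_or_of_commute D hK ⟨t, u, v, rfl⟩ hne hy with h1 | ⟨w, ⟨t', u', v', rfl⟩, rfl⟩
      · exact h1
      · exfalso
        rw [mul_assoc, D.inv_mul_U, ← mul_assoc, ← mul_assoc, D.U_mul, D.U_mul] at hy
        have h1 := (D.inj₁ _ _ _ _ _ _ _ _ hy).1
        apply ht
        linear_combination t * h3 + h1
    obtain ⟨t', u', v', rfl⟩ := hyU
    refine ⟨t', u', v', rfl, ?_, ?_⟩
    · rw [D.U_mul, D.U_mul] at hy
      obtain ⟨-, h2, -⟩ := ReeSylowThree.U_injective D hy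
      have h4 : t' * t ^ (3 ^ (m + 1)) = t * t' ^ (3 ^ (m + 1)) := by linear_combination -h2
      have h5 : (t' * t⁻¹) ^ (3 ^ (m + 1)) = t' * t⁻¹ := by
        rw [mul_pow, inv_pow]
        have h6 : t ^ (3 ^ (m + 1)) ≠ 0 := pow_ne_zero _ ht
        field_simp
        linear_combination -h4
      have h6 : (t' * t⁻¹) ^ (3 ^ (2 * m + 2)) = t' * t⁻¹ := by
        have : 3 ^ (2 * m + 2) = 3 ^ (m + 1) * 3 ^ (m + 1) := by rw [← pow_add]; congr 1; ring
        rw [this, pow_mul, h5, h5]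
      have h7 : (t' * t⁻¹) ^ (3 ^ (2 * m + 2)) = (t' * t⁻¹) ^ 3 := by
        have : 3 ^ (2 * m + 2) = 3 ^ (2 * m + 1) * 3 := by rw [← pow_succ]
        rw [this, pow_mul, ← hK, FiniteField.pow_card]
      rw [← h7, h6]
    · rw [D.U_mul, D.U_mul] at hy
      obtain ⟨-, -, h2⟩ := ReeSylowThree.U_injective D hy
      linear_combination -h2
  choose T Uu V h1 h2 h4 using key
  have hinj : Function.Injective (fun y : (centralizer {U t u v} : Subgroup G) =>
      ((⟨T y * t⁻¹, h2 y⟩ : {c : K // c ^ 3 = c}), V y)) := by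
    intro y y' hyy
    rw [Prod.mk.injEq] at hyy
    have e1 : T y = T y' := mul_right_cancel₀ (inv_ne_zero ht) (congrArg Subtype.val hyy.1)
    have e2 : V y = V y' := hyy.2
    have e3 : Uu y = Uu y' := by
      apply mul_right_cancel₀ ht
      rw [h4 y, h4 y', e1, e2]
    apply Subtype.ext
    rw [h1 y, h1 y', e1, e2, e3]
  have h5 := Nat.card_le_card_of_injective _ hinj
  rw [Nat.card_prod, Nat.card_eq_fintype_card (α := K), hK] at h5
  exact h5.trans (Nat.mul_le_mul_right _ (card_cube K))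

/-- centralisers of the elements of order six -/
theorem cent_Ju [Finite G] (D : Data m U h n) (hK : Fintype.card K = 3 ^ (2 * m + 1)) {u : K} (hu : u ≠ 0) :
    Nat.card (centralizer {U 0 u 0 * h (-1)} : Subgroup G) ≤ 3 * 3 ^ (2 * m + 1) := by
  have hne : U 0 u 0 ≠ 1 := by
    rw [← D.U_zero]
    intro h1
    exact hu (ReeSylowThree.U_injective D h1).2.1
  have hJc : h (-1) * U 0 u 0 = U 0 u 0 * h (-1) := by
    rw [D.inv_mul_U, neg_zero]
  have hcube : (U 0 u 0 * h (-1)) ^ 3 = h (-1) := by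
    have hcm : Commute (U 0 u 0) (h (-1)) := hJc.symm
    rw [hcm.mul_pow, ReeSplit.U_cube D hK]
    have : h (-1) ^ 3 = h (-1) := by rw [pow_succ, pow_two, D.inv_sq, one_mul]
    rw [this]
    simp [D.U_zero]
  have key : ∀ y : (centralizer {U 0 u 0 * h (-1)} : Subgroup G), ∃ (u' : K) (b : Bool),
      (y : G) = U 0 u' 0 * (if b then h (-1) else 1) := by
    rintro ⟨y, hy⟩
    rw [mem_centralizer_singleton_iff] at hy
    have hyJ : y * h (-1) = h (-1) * y := by
      rw [← hcube]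
      exact ((show Commute y (U 0 u 0 * h (-1)) from hy).pow_right 3).eq
    have hyu : y * U 0 u 0 = U 0 u 0 * y := by
      have e1 : U 0 u 0 = (U 0 u 0 * h (-1)) * h (-1) := by rw [mul_assoc, D.inv_sq, mul_one]
      rw [e1]
      exact ((show Commute y (U 0 u 0 * h (-1)) from hy).mul_right (show Commute y (h (-1)) from hyJ)).eq
    rcases ReeSplit.mem_or_of_commute D hK ⟨0, u, 0, rfl⟩ hne hyu with ⟨t', u', v', rfl⟩ | ⟨w, ⟨t', u', v', rfl⟩, rfl⟩
    · rw [D.inv_mul_U] at hyJ
      obtain ⟨e1, -, e2⟩ := ReeSylowThree.U_injective D (mul_right_cancel hyJ)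
      have f1 := D.neg_eq_self hK e1.symm
      have f2 := D.neg_eq_self hK e2.symm
      subst f1 f2
      exact ⟨u', false, by simp⟩
    · rw [← mul_assoc, D.inv_mul_U] at hyJ
      obtain ⟨e1, -, e2⟩ := ReeSylowThree.U_injective D (mul_right_cancel (mul_right_cancel hyJ))
      have f1 := D.neg_eq_self hK e1.symm
      have f2 := D.neg_eq_self hK e2.symm
      subst f1 f2
      exact ⟨u', true, by simp⟩
  choose T b h1 using key
  have hinj : Function.Injective (fun y : (centralizer {U 0 u 0 * h (-1)} : Subgroup G) => (b y, T y)) := by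
    intro y y' hyy
    rw [Prod.mk.injEq] at hyy
    apply Subtype.ext
    rw [h1 y, h1 y', hyy.1, hyy.2]
  have h5 := Nat.card_le_card_of_injective _ hinj
  rw [Nat.card_prod, Nat.card_eq_fintype_card (α := K), hK, Nat.card_eq_fintype_card (α := Bool), Fintype.card_bool] at h5
  omega

/-- normal form of the elements `w h(-1)` -/
theorem exists_conj_J (D : Data m U h n) (hK : Fintype.card K = 3 ^ (2 * m + 1)) (t u v : K) :
    ∃ k : G, ∃ u₀ : K, k * (U t u v * h (-1)) * k⁻¹ = U 0 u₀ 0 * h (-1) := by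
  have h3 : (3 : K) = 0 := by
    have := charP_three hK
    exact CharP.cast_eq_zero K 3
  have hJ : ∀ k w : G, k * (w * h (-1)) * k⁻¹ = (k * w * (h (-1) * k⁻¹ * h (-1))) * h (-1) := by
    intro k w
    have := D.inv_sq
    calc k * (w * h (-1)) * k⁻¹ = k * w * (h (-1) * k⁻¹) * 1 := by group
      _ = k * w * (h (-1) * k⁻¹) * (h (-1) * h (-1)) := by rw [this]
      _ = _ := by group
  have hJU : ∀ a b c : K, h (-1) * U a b c * h (-1) = U (-a) b (-c) := by
    intro a b c
    rw [D.inv_mul_U, mul_assoc, D.inv_sq, mul_one]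
  -- first step
  obtain ⟨b, c, hb⟩ : ∃ b c, (U t 0 0)⁻¹ = U (-t) b c := by
    refine ⟨-(t * t ^ (3 ^ (m + 1))), t ^ 2 * t ^ (3 ^ (m + 1)), ?_⟩
    apply inv_eq_of_mul_eq_one_right
    rw [D.U_mul, ← D.U_zero]
    have ho : Odd (3 ^ (m + 1)) := odd_three_pow _
    rw [ho.neg_pow]
    congr 1
    · ring
    · ring
    · linear_combination (t ^ 2 * t ^ (3 ^ (m + 1))) * h3
  obtain ⟨u₁, v₁, h1⟩ : ∃ u₁ v₁, U t 0 0 * U t u v * (h (-1) * (U t 0 0)⁻¹ * h (-1)) = U 0 u₁ v₁ := by
    rw [hb, hJU, D.U_mul, D.U_mul]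
    have h2 : t + t + -(-t) = 0 := by linear_combination t * h3
    rw [h2]
    exact ⟨_, _, rfl⟩
  have h2 : U 0 0 v₁ * U 0 u₁ v₁ * (h (-1) * (U 0 0 v₁)⁻¹ * h (-1)) = U 0 u₁ 0 := by
    rw [U_neg00 D, hJU, D.U_mul, D.U_mul]
    have z0 : (0 : K) ^ (3 ^ (m + 1)) = 0 := zero_pow (by positivity)
    congr 1
    · ring
    · simp only [neg_zero]; rw [z0]; ring
    · simp only [neg_zero]; rw [z0]
      linear_combination v₁ * h3
  refine ⟨U 0 0 v₁ * U t 0 0, u₁, ?_⟩
  calc U 0 0 v₁ * U t 0 0 * (U t u v * h (-1)) * (U 0 0 v₁ * U t 0 0)⁻¹ =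
      U 0 0 v₁ * (U t 0 0 * (U t u v * h (-1)) * (U t 0 0)⁻¹) * (U 0 0 v₁)⁻¹ := by group
    _ = U 0 0 v₁ * (U 0 u₁ v₁ * h (-1)) * (U 0 0 v₁)⁻¹ := by rw [hJ (U t 0 0), h1]
    _ = U 0 u₁ 0 * h (-1) := by rw [hJ (U 0 0 v₁), h2]

variable {τ : G → K} {θ : K →+* K}

/-- the covering theorem -/
theorem main [Finite G] [IsSimpleGroup G] (D : Data m U h n) (hm : 1 ≤ m)
    (hK : Fintype.card K = 3 ^ (2 * m + 1)) (hG : commutator G = ⊤)
    (hcyc : ∀ x : G, x ≠ 1 → orderOf x ∣ (3 ^ (2 * m + 1)) ^ 2 - 3 ^ (2 * m + 1) + 1 →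
      IsCyclic (centralizer {x}) ∧
        Nat.card (normalizer (centralizer {x} : Set G)) ∣ 6 * Nat.card (centralizer {x}))
    (E : TrData m U h n τ θ) {x : G} (hx : Reg x) {g : G} (hg : g ≠ 1) : P2 x g := by
  classical
  have := Fintype.ofFinite G
  have : CharP K 3 := ReeAbs.charP_three hK
  have : Fact (Nat.Prime 3) := ⟨Nat.prime_three⟩
  have Dl := ReeSetup.local_of_data D hK
  obtain ⟨f, t₀, S⟩ := ReeSetup.exists_setup D hK hG Dl
  have hconj : ∀ x : G, x ≠ 1 → x * x = 1 → IsConj (h (-1)) x :=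
    fun x h1 h2 => isConj_iff.mpr (S.conjG x h1 h2)
  have hcx := (sum_le D hK hG hm hcyc).2
  have hsmall := fun {g : G} (hg : Nat.card (centralizer {g} : Subgroup G) ≤ 3 * 3 ^ (2 * m + 1)) =>
    ReeChar.pair_of_small D hm hK hconj (hcx x hx) hg
  by_cases h3 : 3 ∣ orderOf g
  · -- the element of order three
    have hz : orderOf (g ^ (orderOf g / 3)) = 3 := by
      have hpos := orderOf_pos g
      obtain ⟨k, hk⟩ := h3
      have hk0 : 0 < k := by
        rcases Nat.eq_zero_or_pos k with h | h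
        · rw [h, mul_zero] at hk; omega
        · exact h
      have h4 : orderOf g / 3 = k := by omega
      rw [h4, orderOf_pow_of_dvd hk0.ne' (by rw [hk]; exact Dvd.intro_left _ rfl), hk,
        Nat.mul_div_cancel _ hk0]
    obtain ⟨k, hkU⟩ := H125.ReeFull.conj_uSub D hK (k := 1) (by rw [hz, pow_one])
    have hz1 : g ^ (orderOf g / 3) ≠ 1 := by
      intro h1
      rw [h1, orderOf_one] at hz
      omega
    have hcomm : g * g ^ (orderOf g / 3) = g ^ (orderOf g / 3) * g := ((Commute.refl g).pow_right _).eq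
    have h5 := ReeSplit.mem_or_of_commute D hK hkU (ReeClass.conj_ne hz1 k) (ReeClass.conj_comm hcomm k)
    have hg' : k⁻¹ * g * k ≠ 1 := ReeClass.conj_ne hg k
    have hback : P2 x (k⁻¹ * g * k) → P2 x g := by
      intro h6
      apply P2.of_conj (k := k⁻¹)
      rwa [inv_inv]
    apply hback
    rcases h5 with ⟨t, u, v, hU⟩ | ⟨w, ⟨t, u, v, rfl⟩, hU⟩
    · rw [hU] at hg' ⊢
      by_cases ht : t = 0
      · subst ht
        by_cases hu : u = 0
        · subst hu
          have hv : v ≠ 0 := by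
            rintro rfl
            exact hg' D.U_zero
          exact case_Z D hm hK hG hcyc E hx hv
        · exact case_T D hm hK hG hcyc E hx hu
      · exact hsmall (cent_t D hK ht)
    · obtain ⟨k', u₀, hk'⟩ := exists_conj_J D hK t u v
      rw [hU]
      apply P2.of_conj (k := k')
      rw [hk']
      have hu0 : u₀ ≠ 0 := by
        rintro rfl
        rw [D.U_zero, one_mul, ← hU] at hk'
        have h6 : orderOf (h (-1)) = orderOf g := by
          rw [← hk']
          have e1 := ReeClass.orderOf_conj (k⁻¹ * g * k) k'⁻¹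
          rw [inv_inv] at e1
          rw [e1, ReeClass.orderOf_conj]
        have h7 : orderOf (h (-1)) ∣ 2 := orderOf_dvd_of_pow_eq_one (by rw [pow_two, D.inv_sq])
        rw [h6] at h7
        have h8 := Nat.le_of_dvd (by norm_num) (h3.trans h7)
        omega
      exact hsmall (cent_Ju D hK hu0)
  · by_cases h2 : orderOf g ≤ 2
    · have hpos := orderOf_pos g
      have h1 : orderOf g ≠ 1 := fun h => hg (orderOf_eq_one_iff.1 h)
      have h4 : orderOf g = 2 := by omega
      have h5 : g * g = 1 := by rw [← pow_two, ← h4, pow_orderOf_eq_one]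
      obtain ⟨a, ha1, ha2⟩ := ReeInvol.exists_invol D hK hG hx
      have h6 : P2 x (a * x * a⁻¹ * x) := ⟨_, _, isConj_iff.2 ⟨a, rfl⟩, IsConj.refl x, rfl⟩
      exact h6.of_isConj ((hconj _ ha1 ha2).symm.trans (hconj _ hg h5))
    · have hgr : Reg g := ⟨by omega, h3⟩
      apply hsmall
      refine (hcx g hgr).trans ?_
      have hr3 : 3 * 3 ^ (m + 1) ≤ 3 ^ (2 * m + 1) := by
        rw [← pow_succ']
        exact Nat.pow_le_pow_right (by norm_num) (by omega)
      have hr9 : 9 ≤ 3 ^ (m + 1) := by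
        calc 9 = 3 ^ 2 := by norm_num
          _ ≤ 3 ^ (m + 1) := Nat.pow_le_pow_right (by norm_num) (by omega)
      omega

end Cfsg.Agent.H147.ReeEnd
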