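import Cfsg.Agent.LieRecognition.ReeFinal

/-!
# The trace of the small Ree groups on their 7-dimensional module
-/

set_option autoImplicit false
set_option linter.unusedSectionVars false

namespace Cfsg.Agent.H147.ReeTrace

open Cfsg.Lie Cfsg.Agent.ChevalleyStructure.WordCheck Cfsg.Agent.ChevalleyStructure.WordEntry
open Cfsg.Agent.ChevalleyStructure.Ree.Bracket Cfsg.Agent.ChevalleyStructure.Ree.Good
open Cfsg.Agent.ChevalleyStructure.Ree.Checks Cfsg.Agent.ChevalleyStructure.Ree.Words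
open Cfsg.Agent.ChevalleyStructure.Ree.Gens Cfsg.Agent.ChevalleyStructure.Ree.Bruhat
open Cfsg.Agent.ChevalleyStructure.Ree.Blocks
open Cfsg.Agent.ChevalleyStructure (ReeFixed.IsTheta ReeFixed.exists_theta)
open Cfsg.Agent.LieRecognition Cfsg.Agent.LieRecognition.ReeData

/-- U(6,0) -/
theorem check_60 : entryIs chevG2 3 0 6 wW (Sc 6) (Sc 0)
    (.add (.neg (.mul (.var 5) (.var 5))) (.add (.neg (.mul (.var 2) (.var 3))) (.add (.mul (.var 1) (.var 4))
      (.add (.neg (.mul (.var 1) (.mul (.var 3) (.var 5))))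
        (.add (.neg (.mul (.var 0) (.mul (.mul (.var 1) (.mul (.var 1) (.var 1))) (.var 3))))
          (.mul (.mul (.var 0) (.var 0)) (.mul (.mul (.var 1) (.var 1)) (.mul (.var 1) (.var 1))))))))) = true := by
  decide +kernel

theorem check_51 : entryIs chevG2 3 0 6 wW (Sc 5) (Sc 1)
    (.add (.neg (.mul (.var 3) (.var 3))) (.add (.mul (.var 0) (.var 5)) (.mul (.var 0) (.mul (.var 1) (.var 3))))) = true := by
  decide +kernel

theorem check_42 : entryIs chevG2 3 0 6 wW (Sc 4) (Sc 2) (.neg (.mul (.var 1) (.var 1))) = true := by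
  decide +kernel

variable {K : Type*} [Field K] [Fintype K] {m : ℕ} (hK : Fintype.card K = 3 ^ (2 * m + 1))

/-- the trace -/
def tr (g : ↥(twistedG2 K (3 ^ m))) : K := (bl g).trace

include hK

theorem three_eq_zero : (3 : K) = 0 := by
  obtain ⟨h3, -⟩ := ReeFixed.exists_theta hK
  exact_mod_cast h3

theorem tr_mul_comm (g g' : ↥(twistedG2 K (3 ^ m))) : tr (g * g') = tr (g' * g) := by
  unfold tr
  rw [bl_mul hK, bl_mul hK, Matrix.trace_mul_comm]

theorem tr_conj (g x : ↥(twistedG2 K (3 ^ m))) : tr (g * x * g⁻¹) = tr x := by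
  rw [tr_mul_comm hK, inv_mul_cancel_left]

theorem tr_eq_of_isConj {x y : ↥(twistedG2 K (3 ^ m))} (h : IsConj x y) : tr x = tr y := by
  obtain ⟨g, rfl⟩ := isConj_iff.1 h
  exact (tr_conj hK g x).symm

theorem bl_one : bl (1 : ↥(twistedG2 K (3 ^ m))) = 1 := by
  have h1 := bl_h hK (1 : Kˣ)
  have h2 : h hK (1 : Kˣ) = 1 := by
    have := ReeData.h_mul hK 1 1
    rw [mul_one] at this
    exact left_eq_mul.1 this
  rw [h2] at h1
  rw [h1]
  ext i j
  rw [Matrix.diagonal_apply, Matrix.one_apply]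
  split_ifs with hij
  · fin_cases i <;> simp [dA]
  · rfl

theorem bl_pow (g : ↥(twistedG2 K (3 ^ m))) (k : ℕ) : bl (g ^ k) = bl g ^ k := by
  induction k with
  | zero => rw [pow_zero, pow_zero, bl_one hK]
  | succ k ih => rw [pow_succ, pow_succ, bl_mul hK, ih]

theorem tr_one : tr (1 : ↥(twistedG2 K (3 ^ m))) = 1 := by
  unfold tr
  rw [bl_one hK, Matrix.trace_one, Fintype.card_fin]
  have h3 := three_eq_zero hK
  push_cast
  linear_combination 2 * h3

theorem tr_pow_card (g : ↥(twistedG2 K (3 ^ m))) : tr (g ^ (3 ^ (2 * m + 1))) = tr g := by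
  unfold tr
  rw [bl_pow hK, ← hK]
  rw [FiniteField.trace_pow_card (K := K) (bl g), FiniteField.pow_card]

theorem tr_U (t u v : K) : tr (U m t u v) = 1 := by
  unfold tr
  rw [Matrix.trace]
  simp only [Matrix.diag_apply, bl_U_diag hK]
  simp only [Finset.sum_const, Finset.card_univ, Fintype.card_fin, nsmul_eq_mul, mul_one]
  have h3 := three_eq_zero hK
  push_cast
  linear_combination 2 * h3

/-- the trace of the elements `n h(c) U(t,u,v)` -/
theorem exists_tr_formula : ∃ θ : K →+* K, (∀ x, θ x = x ^ (3 ^ m)) ∧ ∀ (c : Kˣ) (t u v : K),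
    tr (n hK * (h hK c * U m t u v)) = -1 + (c : K) * (θ t) ^ 2 +
      (c : K) * (θ c) ^ 3 * ((θ u) ^ 2 - t * θ v - t * θ t * θ u) +
      (c : K) ^ 2 * (θ c) ^ 3 * ((θ v) ^ 2 + u * θ u - θ t * v + θ t * θ u * θ v + t * (θ t) ^ 3 * θ u
        - t ^ 2 * (θ t) ^ 4) := by
  obtain ⟨h3, θ, hθ⟩ := ReeFixed.exists_theta hK
  have h3' : (3 : K) = 0 := by exact_mod_cast h3
  have hpow : ∀ x, θ x = x ^ (3 ^ m) := fun x => hθ.1 x
  refine ⟨θ, hpow, fun c t u v => ?_⟩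
  have e60 : bl (U m t u v) 6 0 = -(θ v) ^ 2 - u * θ u + θ t * v - θ t * θ u * θ v - t * (θ t) ^ 3 * θ u
      + t ^ 2 * (θ t) ^ 4 := by
    refine (W_entry h3' hθ t u v check_60).trans ?_
    simp only [PExpr.denote, Agent.ChevalleyStructure.ReeFixed.val, List.getD_cons_zero, List.getD_cons_succ]
    ring
  have e51 : bl (U m t u v) 5 1 = -(θ u) ^ 2 + t * θ v + t * θ t * θ u := by
    refine (W_entry h3' hθ t u v check_51).trans ?_
    simp only [PExpr.denote, Agent.ChevalleyStructure.ReeFixed.val, List.getD_cons_zero, List.getD_cons_succ]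
    ring
  have e42 : bl (U m t u v) 4 2 = -(θ t) ^ 2 := by
    refine (W_entry h3' hθ t u v check_42).trans ?_
    simp only [PExpr.denote, Agent.ChevalleyStructure.ReeFixed.val, List.getD_cons_zero, List.getD_cons_succ]
    ring
  unfold tr
  rw [Matrix.trace]
  simp only [Matrix.diag_apply, bl_n_mul hK, bl_h_mul hK, Fin.sum_univ_seven]
  have hr0 : (0 : Fin 7).rev = 6 := rfl
  have hr1 : (1 : Fin 7).rev = 5 := rfl
  have hr2 : (2 : Fin 7).rev = 4 := rfl
  have hr3 : (3 : Fin 7).rev = 3 := rfl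
  have hr4 : (4 : Fin 7).rev = 2 := rfl
  have hr5 : (5 : Fin 7).rev = 1 := rfl
  have hr6 : (6 : Fin 7).rev = 0 := rfl
  rw [hr0, hr1, hr2, hr3, hr4, hr5, hr6, e60, e51, e42, bl_U_diag hK,
    bl_U_low hK t u v 2 4 (by decide), bl_U_low hK t u v 1 5 (by decide), bl_U_low hK t u v 0 6 (by decide)]
  have d6 : dA (c : K) ((c : K) ^ (3 * 3 ^ m)) 6 = (c : K) ^ 2 * (c : K) ^ (3 * 3 ^ m) := rfl
  have d5 : dA (c : K) ((c : K) ^ (3 * 3 ^ m)) 5 = (c : K) * (c : K) ^ (3 * 3 ^ m) := rfl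
  have d4 : dA (c : K) ((c : K) ^ (3 * 3 ^ m)) 4 = (c : K) := rfl
  have d3 : dA (c : K) ((c : K) ^ (3 * 3 ^ m)) 3 = 1 := rfl
  have hc : (c : K) ^ (3 * 3 ^ m) = (θ c) ^ 3 := by rw [hpow, ← pow_mul, mul_comm]
  rw [d6, d5, d4, d3, hc]
  ring

theorem tr_J : tr (h hK (-1) : ↥(twistedG2 K (3 ^ m))) = -1 := by
  unfold tr
  rw [bl_h hK, Matrix.trace_diagonal, Fin.sum_univ_seven]
  have ho : Odd (3 * 3 ^ m) := by
    rw [← pow_succ']
    exact ReeAbs.odd_three_pow _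
  have e : (((-1 : Kˣ) : K)) ^ (3 * 3 ^ m) = -1 := by
    rw [Units.val_neg, Units.val_one, ho.neg_one_pow]
  rw [e, Units.val_neg, Units.val_one]
  have d0 : dA (-1 : K) (-1) 0 = ((-1) ^ 2)⁻¹ * (-1)⁻¹ := rfl
  have d1 : dA (-1 : K) (-1) 1 = (-1)⁻¹ * (-1)⁻¹ := rfl
  have d2 : dA (-1 : K) (-1) 2 = (-1)⁻¹ := rfl
  have d3 : dA (-1 : K) (-1) 3 = 1 := rfl
  have d4 : dA (-1 : K) (-1) 4 = -1 := rfl
  have d5 : dA (-1 : K) (-1) 5 = (-1) * (-1) := rfl
  have d6 : dA (-1 : K) (-1) 6 = (-1) ^ 2 * (-1) := rfl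
  rw [d0, d1, d2, d3, d4, d5, d6]
  norm_num

end Cfsg.Agent.H147.ReeTrace
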