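import Mathlib
import Cfsg.Agent.H147.Four

/-!
# `Sp₄(q)`: isotropic planes in general position (helper147)
-/

set_option autoImplicit false

namespace Cfsg.Agent.H147.Four

open Matrix Polynomial Cfsg.Agent.H147

variable {F : Type*} [Field F] {τ δ : F}

/-- if `E` spans a Lagrangian with `E ∩ g E = 0` then `g` is conjugate to a matrix with prescribed corner `T K` -/
theorem good_pair (H : Hyp τ δ) {g : M4 F} (hg : g ∈ Sp F) (E : Matrix (Fin 2 ⊕ Fin 2) (Fin 2) F)
    (hE : Eᵀ * J (Fin 2) F * E = 0) (hK : (Eᵀ * J (Fin 2) F * g * E).det ≠ 0) {T : M2 F} (hT : Tᵀ = T)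
    {M N : M2 F} (hM : Typ τ δ M) (hN : Typ τ δ N) (hMN : T * (Eᵀ * J (Fin 2) F * g * E) = M * N) :
    Good τ δ g := by
  obtain ⟨K, hKd⟩ : ∃ K, K = Eᵀ * J (Fin 2) F * g * E := ⟨_, rfl⟩
  rw [← hKd] at hK hMN
  have hgJ : gᵀ * J (Fin 2) F * g = J (Fin 2) F := SymplecticGroup.mem_iff'.1 hg
  have hKu : IsUnit K.det := hK.isUnit
  obtain ⟨Q, hQ⟩ : ∃ Q, Q = -(g * E * K⁻¹) := ⟨_, rfl⟩
  have hgE : g * E = -(Q * K) := by
    rw [hQ, Matrix.neg_mul, neg_neg, Matrix.mul_assoc, nonsing_inv_mul _ hKu, Matrix.mul_one]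
  have hEQ : Eᵀ * J (Fin 2) F * Q = -1 := by
    rw [hQ, Matrix.mul_neg, ← Matrix.mul_assoc, ← Matrix.mul_assoc, ← hKd, mul_nonsing_inv _ hKu]
  have hQE : Qᵀ * J (Fin 2) F * E = 1 := by
    have := congrArg Matrix.transpose hEQ
    rw [transpose_mul, transpose_mul, transpose_transpose, J_transpose, transpose_neg, transpose_one] at this
    rw [Matrix.mul_assoc]
    simpa using this
  have hQQ : Qᵀ * J (Fin 2) F * Q = 0 := by
    have h1 : Qᵀ = -((K⁻¹)ᵀ * Eᵀ * gᵀ) := by
      rw [hQ, transpose_neg, transpose_mul, transpose_mul, Matrix.mul_assoc]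
    rw [h1, hQ]
    simp only [Matrix.neg_mul, Matrix.mul_neg, neg_neg]
    calc (K⁻¹)ᵀ * Eᵀ * gᵀ * J (Fin 2) F * (g * E * K⁻¹) = (K⁻¹)ᵀ * (Eᵀ * (gᵀ * J (Fin 2) F * g) * E) * K⁻¹ := by
          simp only [Matrix.mul_assoc]
      _ = 0 := by rw [hgJ, hE]; simp
  obtain ⟨R, hR⟩ : ∃ R, R = Q + E * T := ⟨_, rfl⟩
  have hER : Eᵀ * J (Fin 2) F * R = -1 := by
    rw [hR, Matrix.mul_add, hEQ, ← Matrix.mul_assoc, hE, Matrix.zero_mul, add_zero]
  have hRE : Rᵀ * J (Fin 2) F * E = 1 := by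
    rw [hR, transpose_add, transpose_mul, Matrix.add_mul, Matrix.add_mul, hQE, Matrix.mul_assoc, Matrix.mul_assoc, ← Matrix.mul_assoc Eᵀ,
      hE, Matrix.mul_zero, add_zero]
  have hRR : Rᵀ * J (Fin 2) F * R = 0 := by
    have h1 : Rᵀ * J (Fin 2) F * Q = -T := by
      rw [hR, transpose_add, transpose_mul, Matrix.add_mul, Matrix.add_mul, hQQ, hT, Matrix.mul_assoc, Matrix.mul_assoc,
        ← Matrix.mul_assoc Eᵀ, hEQ]
      simp
    calc Rᵀ * J (Fin 2) F * R = Rᵀ * J (Fin 2) F * Q + Rᵀ * J (Fin 2) F * E * T := by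
          nth_rw 2 [hR]
          rw [Matrix.mul_add, ← Matrix.mul_assoc]
      _ = 0 := by rw [h1, hRE, Matrix.one_mul, neg_add_cancel]
  have hP : fromCols E R ∈ Sp F := by
    rw [SymplecticGroup.mem_iff', transpose_fromCols, fromRows_mul, fromRows_mul_fromCols, hE, hER, hRE, hRR]
    rfl
  have hPi := SymplecticGroup.inv_eq_symplectic_inv _ hP
  obtain ⟨P, hPd⟩ : ∃ P, P = fromCols E R := ⟨_, rfl⟩
  rw [← hPd] at hP hPi
  have hG : P⁻¹ * g * P ∈ Sp F := mul_mem (mul_mem (inv_mem hP) hg) hP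
  have h11 : (P⁻¹ * g * P).toBlocks₁₁ = M * N := by
    have h1 : P⁻¹ * g * P = -(J (Fin 2) F) * (fromRows Eᵀ Rᵀ * J (Fin 2) F * g * fromCols E R) := by
      rw [hPi, hPd, transpose_fromCols]
      simp only [Matrix.mul_assoc]
    have h2 : Rᵀ * J (Fin 2) F * g * E = T * K := by
      rw [Matrix.mul_assoc, hgE, Matrix.mul_neg, ← Matrix.mul_assoc]
      have h3 : Rᵀ * J (Fin 2) F * Q = -T := by
        rw [hR, transpose_add, transpose_mul, Matrix.add_mul, Matrix.add_mul, hQQ, hT, Matrix.mul_assoc, Matrix.mul_assoc,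
          ← Matrix.mul_assoc Eᵀ, hEQ]
        simp
      rw [h3, Matrix.neg_mul, neg_neg]
    have hJ : -(J (Fin 2) F) = fromBlocks 0 1 (-1) 0 := by
      rw [J, fromBlocks_neg]
      simp
    rw [h1, fromRows_mul, fromRows_mul, fromRows_mul_fromCols, hJ, fromBlocks_multiply, toBlocks_fromBlocks₁₁]
    rw [h2, hMN]
    simp
  have hgood : Good τ δ (P⁻¹ * g * P) := by
    rw [← fromBlocks_toBlocks (P⁻¹ * g * P)] at hG ⊢
    rw [h11] at hG ⊢
    exact good_block H hM hN hG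
  refine hgood.of_conj hP ?_
  rw [← Matrix.mul_assoc, ← Matrix.mul_assoc, mul_nonsing_inv _ (unit_of_mem hP), Matrix.one_mul]

/-- the alternating form -/
def bf (u v : Fin 2 ⊕ Fin 2 → F) : F :=
  u (.inr 0) * v (.inl 0) + u (.inr 1) * v (.inl 1) - u (.inl 0) * v (.inr 0) - u (.inl 1) * v (.inr 1)

theorem bf_eq (u v : Fin 2 ⊕ Fin 2 → F) : bf u v = u ⬝ᵥ (J (Fin 2) F *ᵥ v) := by
  simp [bf, dotProduct, J, fromBlocks_mulVec, Fintype.sum_sum_type, Fin.sum_univ_two]
  ring

theorem bf_def (u v : Fin 2 ⊕ Fin 2 → F) : bf u v =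
    u (.inr 0) * v (.inl 0) + u (.inr 1) * v (.inl 1) - u (.inl 0) * v (.inr 0) - u (.inl 1) * v (.inr 1) := rfl

theorem bf_invariant {g : M4 F} (hg : g ∈ Sp F) (u v : Fin 2 ⊕ Fin 2 → F) : bf (g *ᵥ u) (g *ᵥ v) = bf u v := by
  have hgJ : gᵀ * J (Fin 2) F * g = J (Fin 2) F := SymplecticGroup.mem_iff'.1 hg
  rw [bf_eq, bf_eq, ← Matrix.vecMul_transpose, ← Matrix.dotProduct_mulVec, Matrix.mulVec_mulVec, Matrix.mulVec_mulVec, hgJ]

theorem bf_self (u : Fin 2 ⊕ Fin 2 → F) : bf u u = 0 := by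
  rw [bf_def]; ring

theorem bf_swap (u v : Fin 2 ⊕ Fin 2 → F) : bf u v = -bf v u := by
  rw [bf_def, bf_def]; ring

/-- the 4×2 matrix with given columns -/
def cols (e e' : Fin 2 ⊕ Fin 2 → F) : Matrix (Fin 2 ⊕ Fin 2) (Fin 2) F := Matrix.of fun i j => ![e i, e' i] j

theorem cols_form₂ (e e' u u' : Fin 2 ⊕ Fin 2 → F) (A : M4 F) :
    (cols e e')ᵀ * J (Fin 2) F * A * cols u u' =
      !![bf e (A *ᵥ u), bf e (A *ᵥ u'); bf e' (A *ᵥ u), bf e' (A *ᵥ u')] := by
  have key : ∀ i j : Fin 2, ((cols e e')ᵀ * J (Fin 2) F * A * cols u u') i j =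
      bf ((cols e e').col i) (A *ᵥ (cols u u').col j) := by
    intro i j
    rw [bf_eq, Matrix.mulVec_mulVec, Matrix.mul_assoc, Matrix.mul_assoc, Matrix.mul_apply']
    rw [← Matrix.mul_assoc]
    rfl
  have h0 : (cols e e').col 0 = e := by
    ext i; simp [cols, Matrix.col_apply]
  have h1 : (cols e e').col 1 = e' := by
    ext i; simp [cols, Matrix.col_apply]
  have h2 : (cols u u').col 0 = u := by
    ext i; simp [cols, Matrix.col_apply]
  have h3 : (cols u u').col 1 = u' := by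
    ext i; simp [cols, Matrix.col_apply]
  ext i j
  fin_cases i <;> fin_cases j
  · simpa [h0, h1, h2, h3] using key 0 0
  · simpa [h0, h1, h2, h3] using key 0 1
  · simpa [h0, h1, h2, h3] using key 1 0
  · simpa [h0, h1, h2, h3] using key 1 1

theorem cols_form (e e' : Fin 2 ⊕ Fin 2 → F) (A : M4 F) :
    (cols e e')ᵀ * J (Fin 2) F * A * cols e e' =
      !![bf e (A *ᵥ e), bf e (A *ᵥ e'); bf e' (A *ᵥ e), bf e' (A *ᵥ e')] :=
  cols_form₂ e e' e e' A

theorem cols_iso (e e' : Fin 2 ⊕ Fin 2 → F) (h : bf e e' = 0) :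
    (cols e e')ᵀ * J (Fin 2) F * cols e e' = 0 := by
  have h1 := cols_form e e' (1 : M4 F)
  rw [Matrix.mul_one] at h1
  rw [h1, Matrix.one_mulVec, Matrix.one_mulVec, bf_self, bf_self, bf_swap e' e, h]
  ext i j
  fin_cases i <;> fin_cases j <;> simp

/-- first kind of Lagrangian in general position -/
theorem good_i [Finite F] (H : Hyp τ δ) {g : M4 F} (hg : g ∈ Sp F) (e e' : Fin 2 ⊕ Fin 2 → F) (h0 : bf e e' = 0)
    (h1 : bf e (g *ᵥ e) ≠ 0) (h2 : bf e' (g *ᵥ e) = 0) (h3 : bf e' (g *ᵥ e') ≠ 0) : Good τ δ g := by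
  have hd0 := H.d0
  have hK := cols_form e e' g
  rw [h2] at hK
  obtain ⟨a, ha⟩ : ∃ a, a = bf e (g *ᵥ e) := ⟨_, rfl⟩
  obtain ⟨b, hb⟩ : ∃ b, b = bf e (g *ᵥ e') := ⟨_, rfl⟩
  obtain ⟨d, hd⟩ : ∃ d, d = bf e' (g *ᵥ e') := ⟨_, rfl⟩
  rw [← ha, ← hb, ← hd] at hK
  rw [← ha] at h1
  rw [← hd] at h3
  have hKd : ((cols e e')ᵀ * J (Fin 2) F * g * cols e e').det ≠ 0 := by
    rw [hK, det_fin_two_of]
    simpa using ⟨h1, h3⟩
  -- it suffices to find `T`
  have hT : ∀ x y z : F, x * z - y ^ 2 = δ ^ 2 / (a * d) → y ≠ 0 → x * a + y * b + z * d ≠ 2 * δ → Good τ δ g := by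
    intro x y z hdet hy htr
    have hS : !![x, y; y, z] * ((cols e e')ᵀ * J (Fin 2) F * g * cols e e') =
        !![x * a, x * b + y * d; y * a, y * b + z * d] := by
      rw [hK]
      ext i j
      fin_cases i <;> fin_cases j <;> simp [Matrix.mul_apply, Fin.sum_univ_two]
    have hSd : (!![x * a, x * b + y * d; y * a, y * b + z * d] : M2 F).det = δ ^ 2 := by
      rw [det_fin_two_of]
      field_simp at hdet
      linear_combination hdet
    obtain ⟨M, N, hMt, hMd, hNt, hNd, hMN⟩ := Two.exists_mul τ δ H.t0 H.d0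
      !![x * a, x * b + y * d; y * a, y * b + z * d] (by
        rintro ⟨-, e1, -⟩
        simp at e1
        rcases e1 with e1 | e1
        · exact hy e1
        · exact h1 e1) hSd (by
        rw [trace_fin_two_of]
        intro h
        apply htr
        linear_combination h)
    refine good_pair H hg (cols e e') (cols_iso e e' h0) hKd (T := !![x, y; y, z]) ?_ (Or.inl ⟨hMt, hMd⟩)
      (Or.inl ⟨hNt, hNd⟩) (hS.trans hMN)
    ext i j
    fin_cases i <;> fin_cases j <;> simp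
  have had : a * d ≠ 0 := mul_ne_zero h1 h3
  by_cases hchar : (2 : F) = 0
  · -- characteristic two
    have hF : ringChar F = 2 := by
      have h22 : ((2 : ℕ) : F) = 0 := by exact_mod_cast hchar
      have := ringChar.dvd h22
      rcases (Nat.dvd_prime Nat.prime_two).1 this with h | h
      · exfalso
        have := ringChar.Nat.cast_ringChar (R := F)
        rw [h] at this
        simp at this
      · exact h
    obtain ⟨y, hy⟩ := FiniteField.isSquare_of_char_two hF (δ ^ 2 / (a * d))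
    have hy0 : y ≠ 0 := by
      rintro rfl
      rw [mul_zero] at hy
      exact (div_ne_zero (pow_ne_zero 2 hd0) had) hy
    have hneg : ∀ x : F, -x = x := by
      intro x
      linear_combination (-x) * hchar
    by_cases hb0 : b = 0
    · refine hT 1 y 0 ?_ hy0 ?_
      · rw [hy, mul_zero, zero_sub, hneg, sq]
      · rw [hb0, hchar]
        simpa using h1
    · refine hT 0 y 0 ?_ hy0 ?_
      · rw [hy, mul_zero, zero_sub, hneg, sq]
      · rw [hchar]
        simpa using ⟨hy0, hb0⟩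
  · by_cases c1 : a + b + (δ ^ 2 / (a * d) + 1) * d = 2 * δ
    · by_cases c2 : a - b + (δ ^ 2 / (a * d) + 1) * d = 2 * δ
      · refine hT (-1) 1 (-(δ ^ 2 / (a * d) + 1)) (by ring) one_ne_zero ?_
        intro c3
        have e1 : 2 * b = 0 := by linear_combination c1 - c2
        have e2 : b = 0 := by
          rcases mul_eq_zero.1 e1 with e | e
          · exact absurd e hchar
          · exact e
        have e3 : 2 * (2 * δ) = 0 := by
          rw [e2] at c1 c3
          linear_combination -c1 - c3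
        rcases mul_eq_zero.1 e3 with e | e
        · exact hchar e
        · rcases mul_eq_zero.1 e with e | e
          · exact hchar e
          · exact hd0 e
      · refine hT 1 (-1) (δ ^ 2 / (a * d) + 1) (by ring) (neg_ne_zero.2 one_ne_zero) ?_
        intro h
        apply c2
        linear_combination h
    · refine hT 1 1 (δ ^ 2 / (a * d) + 1) (by ring) one_ne_zero ?_
      intro h
      apply c1
      linear_combination h

/-- second kind of Lagrangian in general position -/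
theorem good_ii [Finite F] (H : Hyp τ δ) {g : M4 F} (hg : g ∈ Sp F) (e e' : Fin 2 ⊕ Fin 2 → F) (h0 : bf e e' = 0)
    (h1 : bf e (g *ᵥ e) = 0) (h2 : bf e' (g *ᵥ e) = -bf e (g *ᵥ e')) (h3 : bf e' (g *ᵥ e') = 0)
    (h4 : bf e (g *ᵥ e') ≠ 0) : Good τ δ g := by
  have hd0 := H.d0
  have hK := cols_form e e' g
  rw [h1, h2, h3] at hK
  obtain ⟨b, hb⟩ : ∃ b, b = bf e (g *ᵥ e') := ⟨_, rfl⟩
  rw [← hb] at hK h4
  have hKd : ((cols e e')ᵀ * J (Fin 2) F * g * cols e e').det ≠ 0 := by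
    rw [hK, det_fin_two_of]
    simpa using h4
  by_cases hchar : (2 : F) = 0
  · have hneg : ∀ x : F, -x = x := by
      intro x
      linear_combination (-x) * hchar
    refine good_pair H hg (cols e e') (cols_iso e e' h0) hKd (T := !![0, b⁻¹; b⁻¹, 0]) ?_
      (M := !![0, -δ; 1, τ]) (N := !![τ / δ, 1; -1 / δ, 0]) (Or.inl ?_) (Or.inr ?_) ?_
    · ext i j
      fin_cases i <;> fin_cases j <;> simp
    · simp [trace_fin_two, det_fin_two]
    · simp [trace_fin_two, det_fin_two]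
      field_simp
    · rw [hK]
      ext i j
      fin_cases i <;> fin_cases j <;> simp [Matrix.mul_apply, Fin.sum_univ_two] <;> field_simp
      · exact (hneg 1).symm
      · ring
  · refine ?_
    obtain ⟨M, N, hMt, hMd, hNt, hNd, hMN⟩ := Two.exists_mul τ δ H.t0 H.d0
      !![0, b; -(δ ^ 2 / b), 0] (by
        rintro ⟨e1, -, -⟩
        exact h4 (by simpa using e1)) (by
        rw [det_fin_two_of]
        field_simp
        ring) (by
        rw [trace_fin_two_of]
        intro h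
        have : 2 * δ = 0 := by linear_combination -h
        rcases mul_eq_zero.1 this with e | e
        · exact hchar e
        · exact hd0 e)
    refine good_pair H hg (cols e e') (cols_iso e e' h0) hKd (T := !![1, 0; 0, δ ^ 2 / b ^ 2]) ?_ (Or.inl ⟨hMt, hMd⟩)
      (Or.inl ⟨hNt, hNd⟩) (Eq.trans ?_ hMN)
    · ext i j
      fin_cases i <;> fin_cases j <;> simp
    · rw [hK]
      ext i j
      fin_cases i <;> fin_cases j <;> simp [Matrix.mul_apply, Fin.sum_univ_two] <;> field_simp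

end Cfsg.Agent.H147.Four
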