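import Mathlib
import Cfsg.Agent.H147.FourC

/-!
# `Sp₄(q)`: the reduction to the four-parameter family (helper147)
-/

set_option autoImplicit false

namespace Cfsg.Agent.H147.Four

open Matrix Polynomial Cfsg.Agent.H147

variable {F : Type*} [Field F] {τ δ : F}

theorem bf_add_left (u u' v : Fin 2 ⊕ Fin 2 → F) : bf (u + u') v = bf u v + bf u' v := by
  simp [bf]; ring

theorem bf_smul_left (a : F) (u v : Fin 2 ⊕ Fin 2 → F) : bf (a • u) v = a * bf u v := by
  simp [bf]; ring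

theorem bf_add_right (u v v' : Fin 2 ⊕ Fin 2 → F) : bf u (v + v') = bf u v + bf u v' := by
  simp [bf]; ring

theorem bf_smul_right (a : F) (u v : Fin 2 ⊕ Fin 2 → F) : bf u (a • v) = a * bf u v := by
  simp [bf]; ring

/-- a hyperbolic pair is completed to a symplectic basis -/
theorem exists_pair (v f : Fin 2 ⊕ Fin 2 → F) (h : bf v f = -1) :
    ∃ w w' : Fin 2 ⊕ Fin 2 → F, bf v w = 0 ∧ bf v w' = 0 ∧ bf f w = 0 ∧ bf f w' = 0 ∧ bf w w' = -1 := by
  have hf : bf f v = 1 := by rw [bf_swap, h, neg_neg]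
  -- the projection
  let pr : (Fin 2 ⊕ Fin 2 → F) → (Fin 2 ⊕ Fin 2 → F) := fun x => x + bf v x • f + (-bf f x) • v
  have h1 : ∀ x, bf v (pr x) = 0 := by
    intro x
    simp only [pr, bf_add_right, bf_smul_right, h, bf_self]
    ring
  have h2 : ∀ x, bf f (pr x) = 0 := by
    intro x
    simp only [pr, bf_add_right, bf_smul_right, hf, bf_self]
    ring
  obtain ⟨x, y, hxy⟩ : ∃ x y, bf (pr x) (pr y) ≠ 0 := by
    by_contra hcon
    push Not at hcon
    have key : ∀ x y, bf x y = bf f y * bf x v - bf v y * bf x f := by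
      intro x y
      have := hcon x y
      have e1 : bf (pr x) (pr y) = bf x y + bf v y * bf x f - bf f y * bf x v := by
        have h3 : bf (pr x) (pr y) = bf x (pr y) + bf v x * bf f (pr y) + (-bf f x) * bf v (pr y) := by
          simp only [pr, bf_add_left, bf_smul_left]
        rw [h3, h1, h2]
        simp only [pr, bf_add_right, bf_smul_right]
        ring
      rw [e1] at this
      linear_combination this
    have k01 := key (vec 1 0 0 0) (vec 0 1 0 0)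
    have k02 := key (vec 1 0 0 0) (vec 0 0 1 0)
    have k03 := key (vec 1 0 0 0) (vec 0 0 0 1)
    have k12 := key (vec 0 1 0 0) (vec 0 0 1 0)
    have k13 := key (vec 0 1 0 0) (vec 0 0 0 1)
    have k23 := key (vec 0 0 1 0) (vec 0 0 0 1)
    simp [bf, vec] at k01 k02 k03 k12 k13 k23
    have hp : ∀ a b c d a' b' c' d' : F, (a * b' - b * a') * (c * d' - d * c') - (a * c' - c * a') * (b * d' - d * b') +
      (a * d' - d * a') * (b * c' - c * b') = 0 := by intros; ring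
    have := hp (v (.inl 0)) (v (.inl 1)) (v (.inr 0)) (v (.inr 1)) (f (.inl 0)) (f (.inl 1)) (f (.inr 0)) (f (.inr 1))
    apply one_ne_zero (α := F)
    have c1 : v (.inl 0) * f (.inr 0) - v (.inr 0) * f (.inl 0) = 1 := by linear_combination k02
    have c2 : v (.inl 1) * f (.inr 1) - v (.inr 1) * f (.inl 1) = 1 := by linear_combination k13
    have c3 : v (.inr 0) * f (.inr 1) - v (.inr 1) * f (.inr 0) = 0 := by linear_combination k01
    have c4 : v (.inl 1) * f (.inr 0) - v (.inr 0) * f (.inl 1) = 0 := by linear_combination k03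
    rw [c1, c2, c3, c4] at this
    linear_combination -this
  refine ⟨pr x, (-(bf (pr x) (pr y))⁻¹) • pr y, h1 x, ?_, h2 x, ?_, ?_⟩
  · rw [bf_smul_right, h1, mul_zero]
  · rw [bf_smul_right, h2, mul_zero]
  · rw [bf_smul_right]
    field_simp

/-- the case of a vector `v` with `B(v, g v) ≠ 0` -/
theorem good_of_ne [Finite F] (H : Hyp τ δ) (hF : (2 : F) = 0 → ∃ m : F, m ≠ 0 ∧ m ≠ 1) {g : M4 F} (hg : g ∈ Sp F)
    (v : Fin 2 ⊕ Fin 2 → F) (hv : bf v (g *ᵥ v) ≠ 0) : Good τ δ g ∨ Good τ δ (-g) := by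
  by_cases hw : ∃ w, bf v w = 0 ∧ bf (g *ᵥ v) w = 0 ∧ bf w (g *ᵥ w) ≠ 0
  · obtain ⟨w, h1, h2, h3⟩ := hw
    left
    exact good_i H hg v w h1 hv (by rw [bf_swap, h2, neg_zero]) h3
  push Not at hw
  obtain ⟨c, hc⟩ : ∃ c, c = bf v (g *ᵥ v) := ⟨_, rfl⟩
  rw [← hc] at hv
  obtain ⟨f, hf⟩ : ∃ f, f = (-c⁻¹) • (g *ᵥ v) := ⟨_, rfl⟩
  have hgv : g *ᵥ v = (-c) • f := by
    rw [hf, smul_smul, neg_mul_neg, mul_inv_cancel₀ hv, one_smul]
  have hvf : bf v f = -1 := by
    rw [hf, bf_smul_right, ← hc, neg_mul, inv_mul_cancel₀ hv]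
  have hfv : bf f v = 1 := by rw [bf_swap, hvf, neg_neg]
  obtain ⟨w, w', h1, h2, h3, h4, h5⟩ := exists_pair v f hvf
  have hwv : bf w v = 0 := by rw [bf_swap, h1, neg_zero]
  have hw'v : bf w' v = 0 := by rw [bf_swap, h2, neg_zero]
  have hwf : bf w f = 0 := by rw [bf_swap, h3, neg_zero]
  have hw'f : bf w' f = 0 := by rw [bf_swap, h4, neg_zero]
  have hw'w : bf w' w = 1 := by rw [bf_swap, h5, neg_neg]
  have hgJ : gᵀ * J (Fin 2) F * g = J (Fin 2) F := SymplecticGroup.mem_iff'.1 hg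
  -- the matrix `P`
  obtain ⟨P, hPd⟩ : ∃ P, P = fromCols (cols v w) (cols f w') := ⟨_, rfl⟩
  have hP : P ∈ Sp F := by
    have e1 := cols_form₂ v w v w (1 : M4 F)
    have e2 := cols_form₂ v w f w' (1 : M4 F)
    have e3 := cols_form₂ f w' v w (1 : M4 F)
    have e4 := cols_form₂ f w' f w' (1 : M4 F)
    simp only [Matrix.mul_one, Matrix.one_mulVec, bf_self, hvf, hfv, h1, h2, h3, h4, h5, hwv, hw'v, hwf, hw'f, hw'w]
      at e1 e2 e3 e4
    rw [SymplecticGroup.mem_iff', hPd, transpose_fromCols, fromRows_mul, fromRows_mul_fromCols, e1, e2, e3, e4, J,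
      fromBlocks_inj]
    refine ⟨?_, ?_, ?_, ?_⟩ <;>
    · ext i j
      fin_cases i <;> fin_cases j <;> simp
  -- the entries of `P⁻¹ g P`
  have hG : P⁻¹ * g * P = fromBlocks
      !![bf f (g *ᵥ v), bf f (g *ᵥ w); bf w' (g *ᵥ v), bf w' (g *ᵥ w)]
      !![bf f (g *ᵥ f), bf f (g *ᵥ w'); bf w' (g *ᵥ f), bf w' (g *ᵥ w')]
      !![-bf v (g *ᵥ v), -bf v (g *ᵥ w); -bf w (g *ᵥ v), -bf w (g *ᵥ w)]
      !![-bf v (g *ᵥ f), -bf v (g *ᵥ w'); -bf w (g *ᵥ f), -bf w (g *ᵥ w')] := by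
    have hPi := SymplecticGroup.inv_eq_symplectic_inv _ hP
    have h6 : P⁻¹ * g * P = -(J (Fin 2) F) * (fromRows (cols v w)ᵀ (cols f w')ᵀ * J (Fin 2) F * g *
        fromCols (cols v w) (cols f w')) := by
      rw [hPi, hPd, transpose_fromCols]
      simp only [Matrix.mul_assoc]
    have hJ : -(J (Fin 2) F) = fromBlocks 0 1 (-1) 0 := by
      rw [J, fromBlocks_neg]
      simp
    rw [h6, fromRows_mul, fromRows_mul, fromRows_mul_fromCols, hJ, fromBlocks_multiply, cols_form₂, cols_form₂,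
      cols_form₂, cols_form₂, fromBlocks_inj]
    refine ⟨?_, ?_, ?_, ?_⟩ <;>
    · ext i j
      fin_cases i <;> fin_cases j <;> simp
  have hGm : P⁻¹ * g * P ∈ Sp F := mul_mem (mul_mem (inv_mem hP) hg) hP
  -- values
  have v1 : bf f (g *ᵥ v) = 0 := by rw [hgv, bf_smul_right, bf_self, mul_zero]
  have v2 : bf w' (g *ᵥ v) = 0 := by rw [hgv, bf_smul_right, hw'f, mul_zero]
  have v3 : bf w (g *ᵥ v) = 0 := by rw [hgv, bf_smul_right, hwf, mul_zero]
  have hfg : ∀ x, bf f (g *ᵥ x) = (-c⁻¹) * bf v x := by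
    intro x
    rw [hf, bf_smul_left, bf_invariant hg]
  have v4 : bf f (g *ᵥ w) = 0 := by rw [hfg, h1, mul_zero]
  have v5 : bf f (g *ᵥ w') = 0 := by rw [hfg, h2, mul_zero]
  have v6 : bf f (g *ᵥ f) = 1 / c := by rw [hfg, hvf]; field_simp
  have hW : ∀ x, bf v x = 0 → bf f x = 0 → bf x (g *ᵥ x) = 0 := by
    intro x hx1 hx2
    apply hw x hx1
    rw [hgv, bf_smul_left, hx2, mul_zero]
  have v7 : bf w (g *ᵥ w) = 0 := hW w h1 h3
  have v8 : bf w' (g *ᵥ w') = 0 := hW w' h2 h4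
  have v9 : bf w (g *ᵥ w') = -bf w' (g *ᵥ w) := by
    have := hW (w + w') (by rw [bf_add_right, h1, h2, add_zero]) (by rw [bf_add_right, h3, h4, add_zero])
    rw [Matrix.mulVec_add, bf_add_left, bf_add_right, bf_add_right, v7, v8] at this
    linear_combination this
  obtain ⟨l, hl⟩ : ∃ l, l = bf w' (g *ᵥ w) := ⟨_, rfl⟩
  obtain ⟨r, hr⟩ : ∃ r, r = bf w' (g *ᵥ f) := ⟨_, rfl⟩
  obtain ⟨p, hp⟩ : ∃ p, p = -bf v (g *ᵥ w) := ⟨_, rfl⟩
  obtain ⟨q, hq⟩ : ∃ q, q = -bf v (g *ᵥ w') := ⟨_, rfl⟩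
  obtain ⟨t, ht⟩ : ∃ t, t = -bf v (g *ᵥ f) := ⟨_, rfl⟩
  obtain ⟨s, hs⟩ : ∃ s, s = -bf w (g *ᵥ f) := ⟨_, rfl⟩
  rw [v1, v2, v3, v4, v5, v6, v7, v8, v9, ← hc, ← hl, ← hr, ← hp, ← hq, ← ht, ← hs, neg_neg, neg_zero] at hG
  have hmem := hGm
  rw [hG, SymplecticGroup.fromBlocks_mem_iff] at hmem
  obtain ⟨m1, m2, m3⟩ := hmem
  have n1 := congrFun (congrFun m2 0) 1
  have n2 := congrFun (congrFun m3 1) 0
  have n3 := congrFun (congrFun m3 1) 1
  simp [Matrix.mul_apply, Fin.sum_univ_two] at n1 n2 n3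
  -- `λ² = 1`
  have hq' : q = -(c * l * r) := by
    field_simp at n1
    linear_combination n1
  have hp' : p = c * l * s := by
    field_simp at n2
    linear_combination -n2
  have hl2 : l * l = 1 := n3
  have hfin : Good τ δ (l • (P⁻¹ * g * P)) := by
    have hl0 : l ≠ 0 := left_ne_zero_of_mul_eq_one hl2
    have := good_Gm H hF (mul_ne_zero hl0 hv) (-(l * s)) (l * r) (l * t)
    convert this using 1
    rw [hG, Gm, fromBlocks_smul, fromBlocks_inj]
    refine ⟨?_, ?_, ?_, ?_⟩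
    · ext i j
      fin_cases i <;> fin_cases j <;> simp [hl2]
    · ext i j
      fin_cases i <;> fin_cases j <;> simp
      field_simp
      linear_combination hl2
    · ext i j
      fin_cases i <;> fin_cases j <;> simp
      rw [hp']
      linear_combination (0 : F) * hl2
    · ext i j
      fin_cases i <;> fin_cases j <;> simp [hl2]
      rw [hq']
      ring
  have hl1 : l = 1 ∨ l = -1 := mul_self_eq_one_iff.1 hl2
  have hPu := unit_of_mem hP
  rcases hl1 with rfl | rfl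
  · left
    rw [one_smul] at hfin
    refine hfin.of_conj hP ?_
    rw [← Matrix.mul_assoc, ← Matrix.mul_assoc, mul_nonsing_inv _ hPu, Matrix.one_mul]
  · right
    refine hfin.of_conj hP ?_
    rw [neg_smul, one_smul, mul_neg, ← Matrix.mul_assoc, ← Matrix.mul_assoc, mul_nonsing_inv _ hPu, Matrix.one_mul, neg_mul]

/-- the case of an element with `B(v, g v) = 0` for all `v` -/
theorem good_of_eq [Finite F] (H : Hyp τ δ) {g : M4 F} (hg : g ∈ Sp F)
    (hv : ∀ v : Fin 2 ⊕ Fin 2 → F, bf v (g *ᵥ v) = 0) (h1 : g ≠ 1) (h2 : g ≠ -1) : Good τ δ g := by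
  have hpol : ∀ v w : Fin 2 ⊕ Fin 2 → F, bf w (g *ᵥ v) = -bf v (g *ᵥ w) := by
    intro v w
    have := hv (v + w)
    rw [Matrix.mulVec_add, bf_add_left, bf_add_right, bf_add_right, hv, hv] at this
    linear_combination this
  by_cases hw : ∃ v w, bf v w = 0 ∧ bf v (g *ᵥ w) ≠ 0
  · obtain ⟨v, w, h3, h4⟩ := hw
    exact good_ii H hg v w h3 (hv v) (hpol v w) (hv w) h4
  exfalso
  push Not at hw
  -- `g` is a scalar matrix
  have a01 := hw (vec 1 0 0 0) (vec 1 0 0 0) (by simp [bf, vec])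
  have a02 := hw (vec 1 0 0 0) (vec 0 1 0 0) (by simp [bf, vec])
  have a03 := hw (vec 1 0 0 0) (vec 0 0 0 1) (by simp [bf, vec])
  have b01 := hw (vec 0 1 0 0) (vec 0 1 0 0) (by simp [bf, vec])
  have b02 := hw (vec 0 1 0 0) (vec 1 0 0 0) (by simp [bf, vec])
  have b03 := hw (vec 0 1 0 0) (vec 0 0 1 0) (by simp [bf, vec])
  have c01 := hw (vec 0 0 1 0) (vec 0 1 0 0) (by simp [bf, vec])
  have c02 := hw (vec 0 0 1 0) (vec 0 0 1 0) (by simp [bf, vec])
  have c03 := hw (vec 0 0 1 0) (vec 0 0 0 1) (by simp [bf, vec])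
  have d01 := hw (vec 0 0 0 1) (vec 1 0 0 0) (by simp [bf, vec])
  have d02 := hw (vec 0 0 0 1) (vec 0 0 1 0) (by simp [bf, vec])
  have d03 := hw (vec 0 0 0 1) (vec 0 0 0 1) (by simp [bf, vec])
  have e1 := hw (vec 1 1 0 0) (vec 0 0 1 (-1)) (by simp [bf, vec])
  have e2 := hw (vec 1 0 0 1) (vec 0 1 1 0) (by simp [bf, vec])
  have e3 := hw (vec 0 1 1 0) (vec 1 0 0 1) (by simp [bf, vec])
  simp [bf, vec, Matrix.mulVec, dotProduct, Fin.sum_univ_two, Fintype.sum_sum_type] at a01 a02 a03 b01 b02 b03 c01 c02 c03 d01 d02 d03 e1 e2 e3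
  simp [a02, a03, b02, b03, c03, d02] at e1 e2 e3
  have hsc : g = (g (.inl 0) (.inl 0)) • (1 : M4 F) := by
    ext i j
    rcases i with i | i <;> rcases j with j | j <;> fin_cases i <;> fin_cases j <;> simp [*]
    · linear_combination e2 - e1 - e3
    · linear_combination -e1 - e3
    · linear_combination -e3
  obtain ⟨c, hc⟩ : ∃ c, c = g (.inl 0) (.inl 0) := ⟨_, rfl⟩
  rw [← hc] at hsc
  have hgJ : gᵀ * J (Fin 2) F * g = J (Fin 2) F := SymplecticGroup.mem_iff'.1 hg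
  have hc2 : c * c = 1 := by
    have := congrFun (congrFun hgJ (.inr 0)) (.inl 0)
    rw [hsc] at this
    simpa [J] using this
  rcases mul_self_eq_one_iff.1 hc2 with h | h
  · apply h1
    rw [hsc, h, one_smul]
  · apply h2
    rw [hsc, h, neg_smul, one_smul]

/-- **every symplectic matrix `≠ ± 1` is up to sign a product of two conjugates of `X0 τ δ`** -/
theorem good_main [Finite F] (H : Hyp τ δ) (hF : (2 : F) = 0 → ∃ m : F, m ≠ 0 ∧ m ≠ 1) {g : M4 F} (hg : g ∈ Sp F)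
    (h1 : g ≠ 1) (h2 : g ≠ -1) : Good τ δ g ∨ Good τ δ (-g) := by
  by_cases hv : ∀ v : Fin 2 ⊕ Fin 2 → F, bf v (g *ᵥ v) = 0
  · exact Or.inl (good_of_eq H hg hv h1 h2)
  · push Not at hv
    obtain ⟨v, hv⟩ := hv
    exact good_of_ne H hF hg v hv

end Cfsg.Agent.H147.Four
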