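import Mathlib

/-!
# Irreducible quadratic polynomials over a finite field (helper147)

`exists_tau` : some `X² - τ X - 1`, `τ ≠ 0`, has no root in `F`, `|F| ≥ 3`.
`dvd_of_irr` : `X² - τ X + δ` without roots divides `X ^ (q ^ 2) - X`.
-/

set_option autoImplicit false

namespace Cfsg.Agent.H147.Irr

open Polynomial

variable {F : Type*} [Field F]

/-- the polynomial `X² - τ X - 1` without root, `τ ≠ 0` -/
theorem exists_tau [Fintype F] (h3 : 3 ≤ Fintype.card F) :
    ∃ τ : F, τ ≠ 0 ∧ ∀ a : F, a ^ 2 - τ * a - 1 ≠ 0 := by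
  classical
  by_contra hcon
  push Not at hcon
  -- every nonzero `τ` is `a - a⁻¹`
  have h1 : ∀ τ : {τ : F // τ ≠ 0}, ∃ a : Fˣ, (a : F) - ((a⁻¹ : Fˣ) : F) = τ.1 := by
    rintro ⟨τ, hτ⟩
    obtain ⟨a, ha⟩ := hcon τ hτ
    have ha0 : a ≠ 0 := by
      rintro rfl
      simp at ha
    refine ⟨Units.mk0 a ha0, ?_⟩
    simp only [Units.val_mk0, Units.val_inv_eq_inv_val]
    field_simp
    linear_combination ha
  choose f hf using h1
  have hinj : Function.Injective f := by
    intro s t hst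
    apply Subtype.ext
    rw [← hf s, ← hf t, hst]
  have hbij : Function.Bijective f := by
    rw [Fintype.bijective_iff_injective_and_card]
    refine ⟨hinj, ?_⟩
    rw [Fintype.card_units, Fintype.card_subtype_compl]
    simp
  have hsurj := hbij.2
  -- `1` and `-1`
  have key : ∀ a : Fˣ, (a : F) ^ 2 = -1 := by
    intro a
    obtain ⟨s, hs⟩ := hsurj a
    obtain ⟨t, ht⟩ := hsurj (-a⁻¹)
    have e1 := hf s
    have e2 := hf t
    rw [hs] at e1
    rw [ht] at e2
    have e3 : s = t := by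
      apply Subtype.ext
      rw [← e1, ← e2]
      simp
      ring
    have e4 : a = -a⁻¹ := hs.symm.trans ((congrArg f e3).trans ht)
    have e5 : (a : F) = -((a⁻¹ : Fˣ) : F) := by
      conv_lhs => rw [e4]
      simp
    have e6 : (a : F) * ((a⁻¹ : Fˣ) : F) = 1 := by simp
    have : (a : F) ^ 2 = -((a : F) * ((a⁻¹ : Fˣ) : F)) := by
      rw [sq]
      conv_lhs => rw [e5]
      rw [e5]
      simp
    rw [this, e6]
  have h11 : (1 : F) = -1 := by
    have := key 1
    simpa using this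
  have hall : ∀ a : Fˣ, a = 1 := by
    intro a
    have h1 := key a
    rw [← h11] at h1
    have h2 : ((a : F) - 1) * ((a : F) - 1) = 0 := by
      linear_combination h1 - ((a : F) - 1) * h11
    have h3 : (a : F) - 1 = 0 := by simpa using mul_self_eq_zero.1 h2
    apply Units.ext
    simpa using sub_eq_zero.1 h3
  have : Fintype.card Fˣ ≤ 1 := by
    rw [Fintype.card_le_one_iff]
    intro a b
    rw [hall a, hall b]
  rw [Fintype.card_units] at this
  omega

theorem natDegree_quad (τ δ : F) : (X ^ 2 - C τ * X + C δ : F[X]).natDegree = 2 := by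
  compute_degree!

theorem monic_quad (τ δ : F) : (X ^ 2 - C τ * X + C δ : F[X]).Monic := by
  rw [Monic, leadingCoeff, natDegree_quad]
  simp

theorem irreducible_quad (τ δ : F) (h : ∀ a : F, a ^ 2 - τ * a + δ ≠ 0) :
    Irreducible (X ^ 2 - C τ * X + C δ : F[X]) := by
  apply irreducible_of_degree_le_three_of_not_isRoot
  · rw [natDegree_quad]
    simp
  · intro a ha
    apply h a
    simpa [IsRoot] using ha

/-- an irreducible quadratic polynomial divides `X ^ (q ^ 2) - X` -/
theorem dvd_of_irr [Finite F] (τ δ : F) (h : ∀ a : F, a ^ 2 - τ * a + δ ≠ 0) :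
    (X ^ 2 - C τ * X + C δ : F[X]) ∣ X ^ (Nat.card F) ^ 2 - X := by
  rw [← (irreducible_quad τ δ h).natDegree_dvd_iff_dvd_X_pow_card_pow_sub_X, natDegree_quad]

/-- a linear polynomial divides `X ^ (q ^ 2) - X` -/
theorem dvd_of_lin [Finite F] (a : F) :
    (X - C a : F[X]) ∣ X ^ (Nat.card F) ^ 2 - X := by
  have := Fintype.ofFinite F
  rw [dvd_iff_isRoot, IsRoot, eval_sub, eval_pow, eval_X, sq, pow_mul, Nat.card_eq_fintype_card,
    FiniteField.pow_card, FiniteField.pow_card, sub_self]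

/-- an element `x` of a group with `x ^ (q ^ 2 - 1) = 1` has order prime to `p` -/
theorem not_dvd_orderOf {G : Type*} [Group G] [Fintype F] (p : ℕ) [Fact p.Prime] [CharP F p] (x : G)
    (hx : x ^ (Nat.card F ^ 2 - 1) = 1) : ¬ p ∣ orderOf x := by
  intro hp
  have h1 : orderOf x ∣ Nat.card F ^ 2 - 1 := orderOf_dvd_of_pow_eq_one hx
  obtain ⟨n, hpp, hn⟩ := FiniteField.card F p
  have h2 : p ∣ Nat.card F := by
    rw [Nat.card_eq_fintype_card, hn]
    exact dvd_pow_self p n.ne_zero
  have h3 : p ∣ Nat.card F ^ 2 := dvd_pow h2 two_ne_zero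
  have h4 : p ∣ Nat.card F ^ 2 - 1 := hp.trans h1
  have h5 : 1 ≤ Nat.card F ^ 2 := Nat.one_le_pow _ _ Nat.card_pos
  have h6 : p ∣ 1 := by
    have := Nat.dvd_sub h3 h4
    rwa [Nat.sub_sub_self h5] at this
  exact (Fact.out : p.Prime).one_lt.ne' (Nat.dvd_one.1 h6)

end Cfsg.Agent.H147.Irr
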