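import Cfsg.Agent.H147.ReeInvol

/-!
# Small Ree groups: elements of order three as products of two conjugates
-/

set_option autoImplicit false
set_option linter.unusedSectionVars false

namespace Cfsg.Agent.H147.ReeSq

open Subgroup
open Cfsg.Agent.LieRecognition Cfsg.Agent.LieRecognition.ReeAbs
open Cfsg.Agent.H147.ReeCls

section field

variable {K : Type*} [Field K] [Fintype K] {m : ℕ}

theorem theta_surj (θ : K →+* K) : Function.Surjective θ :=
  Finite.injective_iff_surjective.1 θ.injective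

theorem exists_w (hK : Fintype.card K = 3 ^ (2 * m + 1)) (θ : K →+* K) {A : K} (hA : A ≠ 0) :
    ∃ c : Kˣ, (c = 1 ∨ c = -1) ∧ ∃ w : K, w ≠ 0 ∧ (c : K) * (θ w) ^ 2 = A := by
  obtain ⟨b, hb⟩ := exists_sq_or_neg hK (Units.mk0 A hA)
  obtain ⟨w, hw⟩ := theta_surj θ (b : K)
  have hw0 : w ≠ 0 := by
    rintro rfl
    rw [map_zero] at hw
    exact b.ne_zero hw.symm
  rcases hb with hb | hb
  · refine ⟨1, Or.inl rfl, w, hw0, ?_⟩
    have := congrArg Units.val hb
    rw [Units.val_mk0, Units.val_mul] at this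
    rw [hw, this, Units.val_one]
    ring
  · refine ⟨-1, Or.inr rfl, w, hw0, ?_⟩
    have := congrArg Units.val hb
    rw [Units.val_mk0, Units.val_neg, Units.val_mul] at this
    rw [hw, this, Units.val_neg, Units.val_one]
    ring

theorem exists_uv (hK : Fintype.card K = 3 ^ (2 * m + 1)) (hm : 1 ≤ m) (θ : K →+* K)
    (hθ : ∀ x, θ x = x ^ (3 ^ m)) {w : K} (hw : w ≠ 0) :
    ∃ u : K, u ≠ 0 ∧ ∃ v : K, (θ u) ^ 2 + (θ v) ^ 2 + u * θ u = (θ w) ^ 2 := by
  classical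
  have h3 : (3 : K) = 0 := by
    have := charP_three hK
    exact CharP.cast_eq_zero K 3
  have hns := not_isSquare_neg_one hK
  -- a field element outside the prime field
  obtain ⟨e, he⟩ : ∃ e : K, e ∉ ({0, 1, -1} : Finset K) := by
    by_contra hno
    push Not at hno
    have h1 : Finset.univ ⊆ ({0, 1, -1} : Finset K) := fun e _ => hno e
    have h2 := Finset.card_le_card h1
    rw [Finset.card_univ, hK] at h2
    have h4 : ({0, 1, -1} : Finset K).card ≤ 3 := Finset.card_le_three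
    have h5 : 27 ≤ 3 ^ (2 * m + 1) := by
      calc 27 = 3 ^ 3 := by norm_num
        _ ≤ 3 ^ (2 * m + 1) := Nat.pow_le_pow_right (by norm_num) (by omega)
    omega
  simp only [Finset.mem_insert, Finset.mem_singleton, not_or] at he
  obtain ⟨he0, he1, he2⟩ := he
  set k : K := e - e⁻¹ with hk
  set l : K := e + e⁻¹ with hl
  have hee : e * e⁻¹ = 1 := mul_inv_cancel₀ he0
  have hk0 : k ≠ 0 := by
    intro h
    have h1 : e * e = 1 := by linear_combination e * h + hee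
    rcases mul_self_eq_one_iff.1 h1 with h2 | h2
    · exact he1 h2
    · exact he2 h2
  have hkl : k ^ 2 + 1 = l ^ 2 := by
    rw [hk, hl]
    linear_combination (-4) * hee - h3
  set ρ : K → K := fun x => (θ x) ^ 3 with hρ
  have hρadd : ∀ x y, ρ (x + y) = ρ x + ρ y := by
    intro x y
    have := charP_three hK
    have : Fact (Nat.Prime 3) := ⟨Nat.prime_three⟩
    rw [hρ]
    simp only
    rw [map_add, add_pow_char]
  have hθρ : ∀ x, θ (ρ x) = x := by
    intro x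
    rw [hρ]
    simp only
    rw [map_pow, hθ (θ x), hθ x, ← pow_mul, ← pow_mul]
    have : 3 ^ m * (3 ^ m * 3) = 3 ^ (2 * m + 1) := by ring
    rw [this, ← hK, FiniteField.pow_card]
  -- the additive map
  let L : K →+ K :=
    { toFun := fun u => l ^ 2 * u + ρ u
      map_zero' := by rw [hρ]; simp
      map_add' := by
        intro x y
        rw [hρadd]
        ring }
  have hL : ∀ u, L u = l ^ 2 * u + ρ u := fun u => rfl
  have hinj : Function.Injective L := by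
    rw [injective_iff_map_eq_zero]
    intro u hu
    by_contra hu0
    rw [hL, hρ] at hu
    simp only at hu
    rw [hθ, ← pow_mul] at hu
    -- `3^m * 3 - 1` is even
    have hodd : Odd (3 ^ m * 3) := by
      rw [← pow_succ]; exact odd_three_pow _
    obtain ⟨j, hj⟩ := hodd
    rw [hj] at hu
    have h1 : u * (l ^ 2 + (u ^ j) ^ 2) = 0 := by
      rw [← hu, pow_succ u (2 * j), pow_mul']
      ring
    rcases mul_eq_zero.1 h1 with h2 | h2
    · exact hu0 h2
    · apply hns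
      have hl0 : l ≠ 0 := by
        rintro h4
        rw [h4] at h2
        have h5 : (u ^ j) ^ 2 = 0 := by linear_combination h2
        exact pow_ne_zero 2 (pow_ne_zero j hu0) h5
      refine ⟨u ^ j * l⁻¹, ?_⟩
      have h6 : l * l⁻¹ = 1 := mul_inv_cancel₀ hl0
      linear_combination (-(l⁻¹) ^ 2) * h2 + (l * l⁻¹ + 1) * h6
  obtain ⟨u, hu⟩ := Finite.injective_iff_surjective.1 hinj (-(k * w))
  rw [hL] at hu
  refine ⟨u, ?_, w - k * u, ?_⟩
  · rintro rfl
    have h1 : ρ 0 = 0 := by rw [hρ]; simp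
    rw [h1] at hu
    have h2 : k * w = 0 := by linear_combination hu
    exact (mul_ne_zero hk0 hw) h2
  · have h1 : w ^ 2 - (w - k * u) ^ 2 = u * (u + ρ u) := by
      linear_combination (-u) * hu + (k * u * w) * h3 - u ^ 2 * hkl
    have h2 := congrArg θ h1
    rw [map_sub, map_pow, map_pow, map_mul, map_add, hθρ] at h2
    linear_combination -h2

/-- the units `a` with `a ^ (2 * 3 ^ (m + 1) + 3)` given -/
theorem exists_pow_c (hK : Fintype.card K = 3 ^ (2 * m + 1)) (b : Kˣ) :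
    ∃ a : Kˣ, a ^ (2 * 3 ^ (m + 1) + 3) = b := by
  have hinj : Function.Injective (powMonoidHom (2 * 3 ^ (m + 1) + 3) : Kˣ →* Kˣ) := by
    rw [injective_iff_map_eq_one]
    intro a ha
    exact ReeThree.one_of_pow_c hK a ha
  obtain ⟨a, ha⟩ := Finite.injective_iff_surjective.1 hinj b
  exact ⟨a, ha⟩

theorem exists_pow_b (hK : Fintype.card K = 3 ^ (2 * m + 1)) (b : Kˣ) :
    ∃ a : Kˣ, a ^ (3 ^ (m + 1) + 3) = b ∨ a ^ (3 ^ (m + 1) + 3) = -b := by
  obtain ⟨k, hk⟩ := exists_sq_or_neg hK b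
  refine ⟨f m k, ?_⟩
  rw [f_pow hK, pow_two]
  rcases hk with hk | hk
  · exact Or.inl hk.symm
  · right
    rw [hk, neg_neg]

end field

variable {K : Type*} [Field K] [Fintype K] {G : Type*} [Group G] {m : ℕ}
  {U : K → K → K → G} {h : Kˣ → G} {n : G}

/-- `g` is a product of two conjugates of `x` -/
def P2 (x g : G) : Prop := ∃ a b : G, IsConj x a ∧ IsConj x b ∧ g = a * b

theorem P2.conj {x g : G} (hg : P2 x g) (k : G) : P2 x (k * g * k⁻¹) := by
  obtain ⟨a, b, ha, hb, rfl⟩ := hg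
  refine ⟨k * a * k⁻¹, k * b * k⁻¹, ha.trans (isConj_iff.2 ⟨k, rfl⟩), hb.trans (isConj_iff.2 ⟨k, rfl⟩), ?_⟩
  group

theorem P2.of_conj {x g : G} {k : G} (hg : P2 x (k * g * k⁻¹)) : P2 x g := by
  have := hg.conj k⁻¹
  have e : k⁻¹ * (k * g * k⁻¹) * k⁻¹⁻¹ = g := by group
  rwa [e] at this

theorem P2.of_isConj {x g g' : G} (hg : P2 x g) (hc : IsConj g g') : P2 x g' := by
  obtain ⟨k, rfl⟩ := isConj_iff.1 hc
  exact hg.conj k

/-- the data of the trace -/
structure TrData (m : ℕ) (U : K → K → K → G) (h : Kˣ → G) (n : G) (τ : G → K) (θ : K →+* K) : Prop where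
  theta : ∀ x, θ x = x ^ (3 ^ m)
  conj : ∀ g x, τ (g * x * g⁻¹) = τ x
  pow : ∀ x, τ (x ^ (3 ^ (2 * m + 1))) = τ x
  one : τ 1 = 1
  J : τ (h (-1)) = -1
  form : ∀ (c : Kˣ) (u v : K), (c = 1 ∨ c = -1) →
    τ (n * (h c * U 0 u v)) = -1 + (θ u) ^ 2 + c * ((θ v) ^ 2 + u * θ u)

section main

variable {τ : G → K} {θ : K →+* K}

theorem TrData.surj (E : TrData m U h n τ θ) (hK : Fintype.card K = 3 ^ (2 * m + 1)) {T : K} (hT : T ≠ -1) :
    ∃ c : Kˣ, (c = 1 ∨ c = -1) ∧ ∃ w : K, w ≠ 0 ∧ T + 1 = (c : K) * (θ w) ^ 2 ∧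
      τ (n * (h c * U 0 0 w)) = T := by
  obtain ⟨c, hc, w, hw, he⟩ := exists_w hK θ (A := T + 1) (by
    intro h1
    exact hT (eq_neg_of_add_eq_zero_left h1))
  refine ⟨c, hc, w, hw, he.symm, ?_⟩
  rw [E.form c 0 w hc, map_zero]
  linear_combination he

theorem h_mul_U00 (D : Data m U h n) {c : Kˣ} (hc : c = 1 ∨ c = -1) (w : K) :
    U 0 0 w * h c = h c * U 0 0 ((c : K) * w) := by
  rw [D.h_U, mul_zero, mul_zero]
  rcases hc with rfl | rfl
  · simp
  · have hod : Odd (2 * 3 ^ (m + 1) + 3) := (even_two_mul _).add_odd (by decide)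
    simp only [Units.val_neg, Units.val_one, hod.neg_one_pow]
    congr 2
    ring

theorem U_neg00 (D : Data m U h n) (v : K) : (U 0 0 v)⁻¹ = U 0 0 (-v) := by
  apply inv_eq_of_mul_eq_one_right
  rw [D.U_mul, ← D.U_zero]
  have z0 : (0 : K) ^ (3 ^ (m + 1)) = 0 := zero_pow (by positivity)
  congr 1
  · ring
  · rw [z0]; ring
  · rw [z0]; ring

/-- realness -/
theorem real [Finite G] (D : Data m U h n) (hm : 1 ≤ m) (hK : Fintype.card K = 3 ^ (2 * m + 1))
    (hG : commutator G = ⊤)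
    (hcyc : ∀ x : G, x ≠ 1 → orderOf x ∣ (3 ^ (2 * m + 1)) ^ 2 - 3 ^ (2 * m + 1) + 1 →
      IsCyclic (centralizer {x}) ∧
        Nat.card (normalizer (centralizer {x} : Set G)) ∣ 6 * Nat.card (centralizer {x}))
    (E : TrData m U h n τ θ) {x : G} (hx : Reg x) : IsConj x x⁻¹ := by
  obtain ⟨k1, k2⟩ := trace_separates D hK hG hm hcyc τ E.conj E.pow E.one E.J (by
    intro T hT
    obtain ⟨c, -, w, -, -, hw⟩ := E.surj hK hT
    exact ⟨_, hw⟩)
  obtain ⟨c, hc, w, hw0, hTw, hw⟩ := E.surj hK (k1 x hx).2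
  set y := n * (h c * U 0 0 w) with hy
  have hyR : Reg y := by
    apply reg_of_trace D hK hG hm τ E.conj E.pow E.one E.J
    · rw [hw]; exact (k1 x hx).1
    · rw [hw]; exact (k1 x hx).2
  have hxy : IsConj x y := k2 x y hx hyR hw.symm
  have hyinv : Reg y⁻¹ := by
    unfold Reg at hyR ⊢
    rwa [orderOf_inv]
  have hcc : (h c)⁻¹ = h c := by
    rcases hc with rfl | rfl
    · rw [D.h_one, inv_one]
    · exact inv_eq_of_mul_eq_one_left D.inv_sq
  have hyy : τ y⁻¹ = τ y := by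
    have h1 : y⁻¹ = n⁻¹ * (n * (h c * U 0 0 ((c : K) * -w))) * n⁻¹⁻¹ := by
      rw [hy, mul_inv_rev, mul_inv_rev, U_neg00 D, hcc, D.n_inv, h_mul_U00 D hc, D.n_inv, ← mul_assoc n n,
        D.n_n, one_mul]
    rw [h1, E.conj, hw, E.form c 0 _ hc, map_zero]
    have h2 : (θ ((c : K) * -w)) ^ 2 = (θ w) ^ 2 := by
      rcases hc with rfl | rfl
      · simp
      · simp
    rw [h2]
    linear_combination -hTw
  exact (hxy.trans (k2 y y⁻¹ hyR hyinv hyy.symm)).trans (by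
    obtain ⟨g, hg⟩ := isConj_iff.1 hxy.symm
    exact isConj_iff.2 ⟨g, by rw [← hg]; group⟩)

/-- the product `y₁⁻¹ y₂` -/
theorem P2_of_traces [Finite G] (D : Data m U h n) (hm : 1 ≤ m) (hK : Fintype.card K = 3 ^ (2 * m + 1))
    (hG : commutator G = ⊤)
    (hcyc : ∀ x : G, x ≠ 1 → orderOf x ∣ (3 ^ (2 * m + 1)) ^ 2 - 3 ^ (2 * m + 1) + 1 →
      IsCyclic (centralizer {x}) ∧
        Nat.card (normalizer (centralizer {x} : Set G)) ∣ 6 * Nat.card (centralizer {x}))
    (E : TrData m U h n τ θ) {x : G} (hx : Reg x) {y₁ y₂ : G} (h1 : τ y₁ = τ x) (h2 : τ y₂ = τ x) :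
    P2 x (y₁⁻¹ * y₂) := by
  obtain ⟨k1, k2⟩ := trace_separates D hK hG hm hcyc τ E.conj E.pow E.one E.J (by
    intro T hT
    obtain ⟨c, -, w, -, -, hw⟩ := E.surj hK hT
    exact ⟨_, hw⟩)
  have hR : ∀ y, τ y = τ x → Reg y := by
    intro y hy
    apply reg_of_trace D hK hG hm τ E.conj E.pow E.one E.J
    · rw [hy]; exact (k1 x hx).1
    · rw [hy]; exact (k1 x hx).2
  have e1 := k2 x y₁ hx (hR _ h1) h1.symm
  have e2 := k2 x y₂ hx (hR _ h2) h2.symm
  exact ⟨y₁⁻¹, y₂, e1.trans (real D hm hK hG hcyc E (hR _ h1)), e2, rfl⟩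

/-- the central elements of the Sylow group -/
theorem case_Z [Finite G] (D : Data m U h n) (hm : 1 ≤ m) (hK : Fintype.card K = 3 ^ (2 * m + 1))
    (hG : commutator G = ⊤)
    (hcyc : ∀ x : G, x ≠ 1 → orderOf x ∣ (3 ^ (2 * m + 1)) ^ 2 - 3 ^ (2 * m + 1) + 1 →
      IsCyclic (centralizer {x}) ∧
        Nat.card (normalizer (centralizer {x} : Set G)) ∣ 6 * Nat.card (centralizer {x}))
    (E : TrData m U h n τ θ) {x : G} (hx : Reg x) {v : K} (hv : v ≠ 0) : P2 x (U 0 0 v) := by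
  obtain ⟨k1, k2⟩ := trace_separates D hK hG hm hcyc τ E.conj E.pow E.one E.J (by
    intro T hT
    obtain ⟨c, -, w, -, -, hw⟩ := E.surj hK hT
    exact ⟨_, hw⟩)
  have h3 : (3 : K) = 0 := by
    have := charP_three hK
    exact CharP.cast_eq_zero K 3
  obtain ⟨c, hc, w, hw0, hTw, hw⟩ := E.surj hK (k1 x hx).2
  have hw' : τ (n * (h c * U 0 0 (-w))) = τ x := by
    rw [E.form c 0 _ hc, map_zero, map_neg]
    linear_combination -hTw
  have h1 := P2_of_traces D hm hK hG hcyc E hx hw hw'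
  have h2 : (n * (h c * U 0 0 w))⁻¹ * (n * (h c * U 0 0 (-w))) = U 0 0 w := by
    have : (n * (h c * U 0 0 w))⁻¹ * (n * (h c * U 0 0 (-w))) = (U 0 0 w)⁻¹ * U 0 0 (-w) := by group
    rw [this, U_neg00 D, D.U_mul]
    have z0 : (0 : K) ^ (3 ^ (m + 1)) = 0 := zero_pow (by positivity)
    congr 1
    · ring
    · rw [z0]; ring
    · rw [z0]
      linear_combination (-w) * h3
  rw [h2] at h1
  -- all these elements are conjugate
  obtain ⟨a, ha⟩ := exists_pow_c (m := m) hK (Units.mk0 (v * w⁻¹) (mul_ne_zero hv (inv_ne_zero hw0)))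
  have h4 := h1.conj (h a)
  have h5 : h a * U 0 0 w * (h a)⁻¹ = U 0 0 v := by
    rw [D.h_U, mul_inv_cancel_right, mul_zero, mul_zero]
    congr 1
    have := congrArg Units.val ha
    rw [Units.val_pow_eq_pow_val, Units.val_mk0] at this
    rw [this, inv_mul_cancel_right₀ hw0]
  rwa [h5] at h4

theorem conj_t (D : Data m U h n) (t u v : K) : U t 0 0 * U 0 u v * (U t 0 0)⁻¹ = U 0 u (v + u * t) := by
  rw [mul_inv_eq_iff_eq_mul, D.U_mul, D.U_mul]
  have z0 : (0 : K) ^ (3 ^ (m + 1)) = 0 := zero_pow (by positivity)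
  congr 1
  · ring
  · rw [z0]; ring
  · rw [z0]; ring

theorem U_neg0 (D : Data m U h n) (u v : K) : (U 0 u v)⁻¹ = U 0 (-u) (-v) := by
  apply inv_eq_of_mul_eq_one_right
  rw [D.U_mul, ← D.U_zero]
  have z0 : (0 : K) ^ (3 ^ (m + 1)) = 0 := zero_pow (by positivity)
  congr 1
  · ring
  · rw [z0]; ring
  · rw [z0]; ring

/-- the elements of order three outside the centre of the Sylow group -/
theorem case_T [Finite G] (D : Data m U h n) (hm : 1 ≤ m) (hK : Fintype.card K = 3 ^ (2 * m + 1))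
    (hG : commutator G = ⊤)
    (hcyc : ∀ x : G, x ≠ 1 → orderOf x ∣ (3 ^ (2 * m + 1)) ^ 2 - 3 ^ (2 * m + 1) + 1 →
      IsCyclic (centralizer {x}) ∧
        Nat.card (normalizer (centralizer {x} : Set G)) ∣ 6 * Nat.card (centralizer {x}))
    (E : TrData m U h n τ θ) {x : G} (hx : Reg x) {u v : K} (hu : u ≠ 0) : P2 x (U 0 u v) := by
  obtain ⟨k1, k2⟩ := trace_separates D hK hG hm hcyc τ E.conj E.pow E.one E.J (by
    intro T hT
    obtain ⟨c, -, w, -, -, hw⟩ := E.surj hK hT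
    exact ⟨_, hw⟩)
  have z0 : (0 : K) ^ (3 ^ (m + 1)) = 0 := zero_pow (by positivity)
  obtain ⟨c, hc, w, hw0, hTw, hw⟩ := E.surj hK (k1 x hx).2
  -- one such product
  have hone : ∃ u₀ v₀ : K, u₀ ≠ 0 ∧ P2 x (U 0 u₀ v₀) := by
    have key : ∀ u₁ v₁ : K, τ (n * (h c * U 0 u₁ v₁)) = τ x → P2 x (U 0 u₁ (v₁ - w)) := by
      intro u₁ v₁ h1
      have h2 := P2_of_traces D hm hK hG hcyc E hx hw h1
      have h3 : (n * (h c * U 0 0 w))⁻¹ * (n * (h c * U 0 u₁ v₁)) = U 0 u₁ (v₁ - w) := by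
        have : (n * (h c * U 0 0 w))⁻¹ * (n * (h c * U 0 u₁ v₁)) = (U 0 0 w)⁻¹ * U 0 u₁ v₁ := by group
        rw [this, U_neg00 D, D.U_mul]
        congr 1
        · ring
        · rw [z0]; ring
        · rw [z0]; ring
      rwa [h3] at h2
    rcases hc with rfl | rfl
    · obtain ⟨u₁, hu1, v₁, he⟩ := exists_uv hK hm θ E.theta hw0
      refine ⟨u₁, v₁ - w, hu1, key u₁ v₁ ?_⟩
      rw [E.form 1 _ _ (Or.inl rfl)]
      rw [Units.val_one] at hTw ⊢
      linear_combination he - hTw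
    · refine ⟨1, w - w, one_ne_zero, key 1 w ?_⟩
      rw [E.form (-1) _ _ (Or.inr rfl), map_one]
      rw [Units.val_neg, Units.val_one] at hTw ⊢
      linear_combination -hTw
  obtain ⟨u₀, v₀, hu0, hP⟩ := hone
  -- inverses
  have hinv : ∀ g, P2 x g → P2 x g⁻¹ := by
    rintro g ⟨a, b, ha, hb, rfl⟩
    have hr := real D hm hK hG hcyc E hx
    have hci : ∀ a, IsConj x a → IsConj x a⁻¹ := by
      intro a ha
      obtain ⟨g, hg⟩ := isConj_iff.1 ha
      exact hr.trans (isConj_iff.2 ⟨g, by rw [← hg]; group⟩)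
    exact ⟨b⁻¹, a⁻¹, hci b hb, hci a ha, by group⟩
  -- conjugates
  have hv : ∀ u₁ v₁ v₂ : K, u₁ ≠ 0 → P2 x (U 0 u₁ v₁) → P2 x (U 0 u₁ v₂) := by
    intro u₁ v₁ v₂ h1 h2
    have h3 := h2.conj (U ((v₂ - v₁) * u₁⁻¹) 0 0)
    rw [conj_t D] at h3
    have h4 : v₁ + u₁ * ((v₂ - v₁) * u₁⁻¹) = v₂ := by
      field_simp
      ring
    rwa [h4] at h3
  obtain ⟨a, ha⟩ := exists_pow_b (m := m) hK (Units.mk0 (u * u₀⁻¹) (mul_ne_zero hu (inv_ne_zero hu0)))
  have h4 := hP.conj (h a)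
  rw [D.h_U, mul_inv_cancel_right, mul_zero] at h4
  rcases ha with ha | ha
  · have := congrArg Units.val ha
    rw [Units.val_pow_eq_pow_val, Units.val_mk0] at this
    rw [this, inv_mul_cancel_right₀ hu0] at h4
    exact hv _ _ _ hu h4
  · have := congrArg Units.val ha
    rw [Units.val_pow_eq_pow_val, Units.val_neg, Units.val_mk0] at this
    rw [this, neg_mul, inv_mul_cancel_right₀ hu0] at h4
    have h5 := hinv _ h4
    rw [U_neg0 D, neg_neg] at h5
    exact hv _ _ _ hu h5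

end main

end Cfsg.Agent.H147.ReeSq
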