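import Cfsg.Agent.H147.SzClass

/-!
# Squares of classes in the Suzuki groups
-/

set_option autoImplicit false

namespace Cfsg.Agent.H147.Sz

open Cfsg.Agent.LieRecognition.SzMatrix
open scoped Matrix

variable {F : Type*} [Field F] {θ : F →+* F} {e : ℕ}

/-- every nonidentity element is inverted by an involution or conjugate to an upper unitriangular element -/
def Real (H : Good F θ e) : Prop := ∀ g : ↥(Cfsg.Lie.Sz F e), g ≠ 1 →
  (g * g ≠ 1 ∧ ∃ i : ↥(Cfsg.Lie.Sz F e), i ≠ 1 ∧ i * i = 1 ∧ i * g * i = g⁻¹) ∨ ∃ a b, IsConj g (H.u a b)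

theorem u_sq (H : Good F θ e) (a b : F) : H.u a b * H.u a b = H.u 0 (a * θ a) := by
  rw [H.u_mul]
  congr 1
  · exact H.add_self a
  · linear_combination b * H.two

theorem exists_unip_form [Finite F] (H : Good F θ e) {g : ↥(Cfsg.Lie.Sz F e)} {a b : F} (hg1 : g ≠ 1)
    (h : IsConj g (H.u a b)) : (g * g = 1 ∧ IsConj g (H.u 0 1)) ∨ (g * g ≠ 1 ∧ ∃ b, IsConj g (H.u 1 b)) := by
  by_cases ha : a = 0
  · left
    have hgg : g * g = 1 := by
      obtain ⟨x, hx⟩ := isConj_iff.1 h.symm
      rw [← hx]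
      have : x * H.u a b * x⁻¹ * (x * H.u a b * x⁻¹) = x * (H.u a b * H.u a b) * x⁻¹ := by group
      rw [this, u_sq, ha, zero_mul, H.u_zero]
      group
    exact ⟨hgg, isConj_invol H hg1 hgg⟩
  · right
    have hθ : θ a ≠ 0 := by rwa [map_ne_zero]
    refine ⟨?_, b / (a * θ a), ?_⟩
    · intro hgg
      obtain ⟨x, hx⟩ := isConj_iff.1 h
      have h1 : H.u a b * H.u a b = 1 := by
        rw [← hx]
        have : x * g * x⁻¹ * (x * g * x⁻¹) = x * (g * g) * x⁻¹ := by group
        rw [this, hgg]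
        group
      rw [u_sq, u_eq_one_iff] at h1
      exact mul_ne_zero ha hθ h1.2
    · have h1 := isConj_u_one H ha (b / (a * θ a))
      rw [mul_div_cancel₀ _ (mul_ne_zero ha hθ)] at h1
      exact h.trans h1

/-- normal forms -/
theorem normal_form [Finite F] (H : Good F θ e) (hR : Real H) {g : ↥(Cfsg.Lie.Sz F e)} (hg : g ≠ 1) :
    (∃ k : Fˣ, (k : F) = tr g ∧ IsConj g (H.u 0 1 * H.w * H.d k)) ∨
    (tr g = 0 ∧ ((g * g = 1 ∧ IsConj g (H.u 0 1)) ∨ (g * g ≠ 1 ∧ ∃ b, IsConj g (H.u 1 b)))) := by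
  rcases hR g hg with ⟨h1, i, hi1, hi2, hi3⟩ | ⟨a, b, h⟩
  · left
    obtain ⟨k, hk⟩ := strongly_real H h1 hi1 hi2 hi3
    refine ⟨k, ?_, hk⟩
    rw [tr_of_isConj hk, tr_1wd]
  · right
    exact ⟨by rw [tr_of_isConj h, tr_u], exists_unip_form H hg h⟩

theorem isConj_of_tr [Finite F] (H : Good F θ e) (hR : Real H) {g h : ↥(Cfsg.Lie.Sz F e)} (hg : tr g ≠ 0)
    (hgh : tr g = tr h) : IsConj g h := by
  have h4 : tr (1 : ↥(Cfsg.Lie.Sz F e)) = 0 := by rw [← H.u_zero, tr_u]
  have key : ∀ g : ↥(Cfsg.Lie.Sz F e), tr g ≠ 0 → ∃ k : Fˣ, (k : F) = tr g ∧ IsConj g (H.u 0 1 * H.w * H.d k) := by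
    intro g hg
    have hg1 : g ≠ 1 := by
      rintro rfl
      exact hg h4
    rcases normal_form H hR hg1 with h | h
    · exact h
    · exact absurd h.1 hg
  obtain ⟨k, hk, hgk⟩ := key g hg
  obtain ⟨l, hl, hhl⟩ := key h (by rwa [← hgh])
  have : k = l := Units.ext (by rw [hk, hl, hgh])
  rw [this] at hgk
  exact hgk.trans hhl.symm

theorem isConj_w_conj (H : Good F θ e) (g : ↥(Cfsg.Lie.Sz F e)) : IsConj g (H.w * g * H.w) :=
  isConj_iff.2 ⟨H.w, by rw [H.w_inv]⟩

/-- **the square of a class of elements of order `> 2` covers the group** -/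
theorem cover [Finite F] (H : Good F θ e) (hcard : 2 < Nat.card F) (hR : Real H)
    {x g : ↥(Cfsg.Lie.Sz F e)} (hx : x * x ≠ 1) (hg : g ≠ 1) :
    ∃ y z : ↥(Cfsg.Lie.Sz F e), IsConj x y ∧ IsConj x z ∧ IsConj g (y * z) := by
  have h2 := H.two
  have hx1 : x ≠ 1 := by
    rintro rfl
    exact hx (one_mul 1)
  have hA1 := one_notMem H
  rcases normal_form H hR hx1 with ⟨tu, htu, -⟩ | ⟨-, ⟨hxx, -⟩ | ⟨-, b0, hxb⟩⟩
  · -- `x` of nonzero trace `t`
    set t : F := (tu : F) with ht
    have ht0 : t ≠ 0 := tu.ne_zero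
    have hx0 : tr x ≠ 0 := by rw [← htu]; exact ht0
    have conj_x : ∀ {y : ↥(Cfsg.Lie.Sz F e)}, tr y = t → IsConj x y := by
      intro y hy
      exact isConj_of_tr H hR hx0 (by rw [← htu, hy])
    rcases normal_form H hR hg with ⟨su, hsu, -⟩ | ⟨-, hg'⟩
    · -- `g` of nonzero trace `s`
      have hs0 : tr g ≠ 0 := by rw [← hsu]; exact su.ne_zero
      obtain ⟨s', hs'⟩ := exists_sq H (tr g)
      obtain ⟨b, hb⟩ := theta_surj (θ := θ) s'
      obtain ⟨d, hd⟩ := theta_surj (θ := θ) t
      have huu : H.u 0 (b + d) * H.u 0 (b + d) = 1 := by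
        rw [u_sq, zero_mul, H.u_zero]
      have ey : H.w * H.u 0 b * H.u 0 (b + d) = H.w * H.u 0 d := by
        rw [mul_assoc, H.u_mul]
        congr 2
        · ring
        · rw [zero_mul]; linear_combination b * h2
      refine ⟨H.w * H.u 0 b * H.u 0 (b + d), H.u 0 (b + d) * (H.w * H.u 0 b), ?_, ?_, ?_⟩
      · apply conj_x
        rw [ey, tr_wu, hd]
        simp
      · apply conj_x
        rw [tr_mul_comm, ey, tr_wu, hd]
        simp
      · apply isConj_of_tr H hR hs0
        have : H.w * H.u 0 b * H.u 0 (b + d) * (H.u 0 (b + d) * (H.w * H.u 0 b)) =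
            H.w * H.u 0 b * (H.u 0 (b + d) * H.u 0 (b + d)) * (H.w * H.u 0 b) := by group
        rw [this, huu, mul_one, tr_sq h2, tr_wu, hb, ← hs']
        simp
    · -- `g` a 2-element
      obtain ⟨v, hv0, hv⟩ := exists_quad H hcard ht0
      have hθv : θ v ≠ 0 := by rwa [map_ne_zero]
      have hk0 : v * θ v ≠ 0 := mul_ne_zero hv0 hθv
      set k : Fˣ := Units.mk0 (v * θ v) hk0 with hk
      have hkv : (k : F) = v * θ v := rfl
      have hB : 1 + t * (v * θ v) + θ v ∈ A θ := by
        have h1 : t * (v * θ v) + θ v ∉ A θ := by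
          intro h
          apply hv
          have h3 := (A θ).sub_mem h (add_theta_mem (θ := θ) v)
          have h4 : t * (v * θ v) + θ v - (v + θ v) = t * (v * θ v) + v := by
            linear_combination -v * h2
          rwa [h4] at h3
        rw [add_assoc, add_mem_iff H]
        exact ⟨fun h => absurd h hA1, fun h => absurd h h1⟩
      obtain ⟨B, hB⟩ := hB
      have hB : B + θ B = 1 + t * (v * θ v) + θ v := hB
      -- the trace of the second factor
      have trz : ∀ C : F, C + θ C = 1 + t * (v * θ v) + θ v → tr (H.d k⁻¹ * H.u 1 C * H.w) = t := by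
        intro C hC
        rw [tr_mul_comm, H.d_mul_u, ← mul_assoc, tr_wud]
        simp only [Units.val_inv_eq_inv_val, hkv, map_mul, map_inv₀, H.sq, one_mul, map_pow]
        field_simp
        linear_combination hC + (1 + θ v) * h2
      have trz1 : ∀ C : F, C + θ C = 1 + t * (v * θ v) + θ v → tr (H.w * H.u 1 C * H.d k) = t := by
        intro C hC
        rw [tr_wud]
        simp only [hkv, map_mul, H.sq, map_one, one_mul]
        field_simp
        linear_combination hC + (1 + θ v) * h2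
      rcases hg' with ⟨-, hg'⟩ | ⟨-, f0, hg'⟩
      · refine ⟨H.w * H.u 1 B * H.d k, H.d k⁻¹ * H.u 1 B * H.w, conj_x (trz1 B hB), conj_x (trz B hB), ?_⟩
        have e1 : H.w * H.u 1 B * H.d k * (H.d k⁻¹ * H.u 1 B * H.w) =
            H.w * (H.u 1 B * (H.d k * H.d k⁻¹) * H.u 1 B) * H.w := by group
        rw [e1, H.d_mul, mul_inv_cancel, H.d_one, mul_one, u_sq, map_one, one_mul]
        exact hg'.trans (isConj_w_conj H _)
      · obtain ⟨b, hb⟩ := theta_surj (θ := θ) (t * (v * θ v))
        have try' : tr (H.w * H.u 0 b * H.d k) = t := by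
          rw [tr_wud, hb]
          simp only [hkv, map_zero, zero_mul]
          field_simp
          ring
        -- choose the right solution
        obtain ⟨C, hC, hC2⟩ : ∃ C, C + θ C = 1 + t * (v * θ v) + θ v ∧ f0 + (b + C) ∈ A θ := by
          by_cases h : f0 + (b + B) ∈ A θ
          · exact ⟨B, hB, h⟩
          · refine ⟨B + 1, ?_, ?_⟩
            · rw [map_add, map_one]
              linear_combination hB + h2
            · have e1 : f0 + (b + (B + 1)) = f0 + (b + B) + 1 := by ring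
              rw [e1, add_mem_iff H]
              exact ⟨fun h' => absurd h' h, fun h' => absurd h' hA1⟩
        refine ⟨H.w * H.u 0 b * H.d k, H.d k⁻¹ * H.u 1 C * H.w, conj_x try', conj_x (trz C hC), ?_⟩
        have e1 : H.w * H.u 0 b * H.d k * (H.d k⁻¹ * H.u 1 C * H.w) =
            H.w * (H.u 0 b * (H.d k * H.d k⁻¹) * H.u 1 C) * H.w := by group
        rw [e1, H.d_mul, mul_inv_cancel, H.d_one, mul_one, H.u_mul, zero_add, zero_mul, add_zero]
        exact (hg'.trans (isConj_one_of_mem H hC2)).trans (isConj_w_conj H _)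
  · exact absurd hxx hx
  · -- `x` of order four
    rcases normal_form H hR hg with ⟨su, hsu, -⟩ | ⟨-, ⟨-, hg'⟩ | ⟨-, f0, hg'⟩⟩
    · set s : F := (su : F) with hs
      have hs0 : s ≠ 0 := su.ne_zero
      obtain ⟨s', hs'⟩ := theta_surj (θ := θ) s
      have hs'0 : s' ≠ 0 := by
        rintro rfl
        rw [map_zero] at hs'
        exact hs0 hs'.symm
      obtain ⟨v, hv0, hv⟩ := exists_quad H hcard hs'0
      have hθv : θ v ≠ 0 := by rwa [map_ne_zero]
      have hv' : s * (v ^ 2 * θ v) + v ^ 2 ∉ A θ := by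
        intro h
        apply hv
        rw [← theta_mem_iff, map_add, map_mul, map_mul, hs', H.sq]
        have h3 := (A θ).add_mem h (add_theta_mem (θ := θ) (θ v))
        rw [H.sq] at h3
        have h4 : s * (v ^ 2 * θ v) + v ^ 2 + (θ v + v ^ 2) = s * (θ v * v ^ 2) + θ v := by
          linear_combination v ^ 2 * h2
        rwa [h4] at h3
      obtain ⟨β, hβ⟩ := exists_sq H (s * (v ^ 2 * θ v) + v ^ 2)
      have hβA : β ∉ A θ := by
        rw [← sq_mem_iff H, hβ]
        exact hv'
      have hβ1 : 1 + β ∈ A θ := by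
        rw [add_mem_iff H]
        exact ⟨fun h => absurd h hA1, fun h => absurd h hβA⟩
      obtain ⟨b, hb, hb2⟩ : ∃ b, b + θ b = 1 + β ∧ b0 + b ∈ A θ := by
        obtain ⟨b, hb⟩ := hβ1
        have hb : b + θ b = 1 + β := hb
        by_cases h : b0 + b ∈ A θ
        · exact ⟨b, hb, h⟩
        · refine ⟨b + 1, ?_, ?_⟩
          · rw [map_add, map_one]
            linear_combination hb + h2
          · rw [← add_assoc, add_mem_iff H]
            exact ⟨fun h' => absurd h' h, fun h' => absurd h' hA1⟩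
      have hP : v⁻¹ ≠ 0 := inv_ne_zero hv0
      refine ⟨H.w * H.u v⁻¹ (v⁻¹ * θ v⁻¹ * b) * H.w, H.u 1 b, ?_, hxb.trans (isConj_one_of_mem H hb2), ?_⟩
      · exact ((hxb.trans (isConj_one_of_mem H hb2)).trans (isConj_u_one H hP b).symm).trans (isConj_w_conj H _)
      · apply isConj_of_tr H hR (by rw [← hsu]; exact hs0)
        rw [← hsu, tr_wuwu]
        simp only [map_mul, map_inv₀, H.sq, map_one, one_mul, mul_one, one_pow]
        field_simp
        linear_combination (-1 : F) * hβ + (b + 1 + θ b + β + 2) * hb +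
          (1 - v * b - v ^ 2 - 2 * b - 2 * b * θ b - b ^ 2 - 2 * θ b - θ b ^ 2 + 2 * β + β ^ 2) * h2
    · -- `g` an involution
      refine ⟨x, x, IsConj.refl x, IsConj.refl x, hg'.trans ?_⟩
      obtain ⟨y, hy⟩ := isConj_iff.1 hxb
      have h1 : IsConj (x * x) (H.u 0 1) := by
        refine isConj_iff.2 ⟨y, ?_⟩
        have : y * (x * x) * y⁻¹ = (y * x * y⁻¹) * (y * x * y⁻¹) := by group
        rw [this, hy, u_sq, map_one, one_mul]
      exact h1.symm
    · -- `g` of order four
      obtain ⟨a, ha0, ha1⟩ := exists_ne (F := F) hcard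
      have hθa : θ a ≠ 0 := by rwa [map_ne_zero]
      have haθ : a * θ a ≠ 1 := by
        intro h
        have h3 := congrArg θ h
        rw [map_mul, H.sq, map_one] at h3
        apply ha1
        have h4 : a * 1 = a * (a * θ a) := by rw [h]
        have h5 : a * (a * θ a) = 1 := by rw [← h3]; ring
        rw [h5, mul_one] at h4
        exact h4
      obtain ⟨α, hα, hα2⟩ := exists_mul_notMem H (mul_ne_zero ha0 hθa) haθ
      have h1a : 1 + a ≠ 0 := by
        intro h
        apply ha1
        linear_combination h - h2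
      have main : ∀ c ∈ A θ, f0 + (a * θ a * (b0 + c) + (1 + a) * θ (1 + a) * b0 + a * θ (1 + a)) ∈ A θ →
          ∃ y z : ↥(Cfsg.Lie.Sz F e), IsConj x y ∧ IsConj x z ∧ IsConj g (y * z) := by
        intro c hc hmem
        refine ⟨H.u a (a * θ a * (b0 + c)), H.u (1 + a) ((1 + a) * θ (1 + a) * b0), ?_, ?_, ?_⟩
        · refine (hxb.trans (isConj_one_of_mem H ?_)).trans (isConj_u_one H ha0 (b0 + c)).symm
          have : b0 + (b0 + c) = c := by linear_combination b0 * h2
          rwa [this]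
        · exact hxb.trans (isConj_u_one H h1a b0).symm
        · rw [H.u_mul]
          have e1 : a + (1 + a) = 1 := by linear_combination a * h2
          rw [e1]
          exact hg'.trans (isConj_one_of_mem H hmem)
      by_cases h : f0 + (a * θ a * (b0 + 0) + (1 + a) * θ (1 + a) * b0 + a * θ (1 + a)) ∈ A θ
      · exact main 0 (zero_mem _) h
      · apply main α hα
        have e1 : f0 + (a * θ a * (b0 + α) + (1 + a) * θ (1 + a) * b0 + a * θ (1 + a)) =
            (f0 + (a * θ a * (b0 + 0) + (1 + a) * θ (1 + a) * b0 + a * θ (1 + a))) + a * θ a * α := by ring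
        rw [e1, add_mem_iff H]
        exact ⟨fun h' => absurd h' h, fun h' => absurd h' hα2⟩

end Cfsg.Agent.H147.Sz
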