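import Cfsg.Agent.LieRecognition.SzMatrix

/-!
# Fields with a square root of the Frobenius: the hyperplane `{c + θ c}`
-/

set_option autoImplicit false

namespace Cfsg.Agent.H147.Sz

open Cfsg.Agent.LieRecognition.SzMatrix

variable {F : Type*} [Field F] {θ : F →+* F} {e : ℕ}

/-- the image of `c ↦ c + θ c` -/
def A (θ : F →+* F) : AddSubgroup F := (AddMonoidHom.id F + (θ : F →+ F)).range

theorem mem_A {x : F} : x ∈ A θ ↔ ∃ c, c + θ c = x := Iff.rfl

theorem add_theta_mem (c : F) : c + θ c ∈ A θ := ⟨c, rfl⟩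

theorem fix_theta (H : Good F θ e) {c : F} (h : θ c = c) : c = 0 ∨ c = 1 := by
  have h1 := H.sq c
  rw [h, h] at h1
  have h2 : c * (c - 1) = 0 := by linear_combination -h1
  rcases mul_eq_zero.1 h2 with h3 | h3
  · exact Or.inl h3
  · exact Or.inr (by linear_combination h3)

theorem one_notMem (H : Good F θ e) : (1 : F) ∉ A θ := by
  rintro ⟨c, hc⟩
  have hc : c + θ c = 1 := hc
  have h1 := congrArg θ hc
  rw [map_add, map_one, H.sq] at h1
  have h2 : c * (c + 1) = 0 := by linear_combination h1 + hc - θ c * H.two - H.two + 2 * H.two - H.two + (1 : F) * H.two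
  have h3 : θ c = 1 + c := by linear_combination hc - c * H.two
  rcases mul_eq_zero.1 h2 with h4 | h4
  · rw [h4, map_zero, zero_add] at hc
    exact zero_ne_one hc
  · have h5 : c = 1 := by linear_combination h4 - H.two
    rw [h5, map_one, ← two_mul, mul_one, H.two] at hc
    exact zero_ne_one hc

theorem theta_mem_iff {x : F} : θ x ∈ A θ ↔ x ∈ A θ := by
  have h1 := add_theta_mem (θ := θ) x
  constructor
  · intro h
    have := (A θ).sub_mem h1 h
    rwa [add_sub_cancel_right] at this
  · intro h
    have := (A θ).sub_mem h1 h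
    rwa [add_sub_cancel_left] at this

theorem sq_mem_iff (H : Good F θ e) {x : F} : x ^ 2 ∈ A θ ↔ x ∈ A θ := by
  rw [← H.sq, theta_mem_iff, theta_mem_iff]

theorem index_two [Finite F] (H : Good F θ e) : (A θ).index = 2 := by
  have h1 : Nat.card (AddMonoidHom.id F + (θ : F →+ F)).ker = 2 := by
    rw [Nat.card_eq_two_iff]
    refine ⟨⟨0, zero_mem _⟩, ⟨1, ?_⟩, ?_, ?_⟩
    · rw [AddMonoidHom.mem_ker]
      show (1 : F) + θ 1 = 0
      rw [map_one]
      exact H.add_self 1
    · intro h
      exact zero_ne_one (congrArg Subtype.val h)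
    · ext ⟨x, hx⟩
      simp only [Set.mem_insert_iff, Set.mem_singleton_iff, Subtype.mk.injEq, Set.mem_univ, iff_true]
      have hx : x + θ x = 0 := hx
      apply fix_theta H
      linear_combination hx - x * H.two
  have h2 := (AddMonoidHom.id F + (θ : F →+ F)).ker.card_mul_index
  have h3 : (AddMonoidHom.id F + (θ : F →+ F)).ker.index = Nat.card (A θ) := by
    rw [AddSubgroup.index_ker]; rfl
  have h4 := (A θ).card_mul_index
  rw [h1, h3] at h2
  have h5 : 0 < Nat.card (A θ) := Nat.card_pos
  apply Nat.eq_of_mul_eq_mul_left h5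
  rw [h4, ← h2, mul_comm]

theorem add_mem_iff [Finite F] (H : Good F θ e) {x y : F} : x + y ∈ A θ ↔ (x ∈ A θ ↔ y ∈ A θ) :=
  AddSubgroup.add_mem_iff_of_index_two (index_two H)

theorem eq_zero_of_mul_mem (H : Good F θ e) {x : F} (h : ∀ w, w * x ∈ A θ) : x = 0 := by
  by_contra hx
  have := h x⁻¹
  rw [inv_mul_cancel₀ hx] at this
  exact one_notMem H this

theorem theta_surj [Finite F] : Function.Surjective θ :=
  Finite.injective_iff_surjective.1 θ.injective

/-- for `c ≠ 1`, multiplication by `c` does not preserve the hyperplane -/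
theorem exists_mul_notMem [Finite F] (H : Good F θ e) {c : F} (hc0 : c ≠ 0) (hc : c ≠ 1) :
    ∃ x ∈ A θ, c * x ∉ A θ := by
  by_contra hcon
  push Not at hcon
  -- `c` induces a bijection of the hyperplane
  have h1 : ∀ x, c * x ∈ A θ → x ∈ A θ := by
    let f : A θ → A θ := fun x => ⟨c * x, hcon x x.2⟩
    have hf : Function.Injective f := fun x y hxy =>
      Subtype.ext (mul_left_cancel₀ hc0 (congrArg Subtype.val hxy))
    have hs := Finite.injective_iff_surjective.1 hf
    intro x hx
    obtain ⟨y, hy⟩ := hs ⟨c * x, hx⟩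
    have : c * (y : F) = c * x := congrArg Subtype.val hy
    rw [← mul_left_cancel₀ hc0 this]
    exact y.2
  have h2 : c + 1 = 0 := by
    apply eq_zero_of_mul_mem H
    intro w
    rw [mul_add, mul_one, add_mem_iff H, mul_comm]
    exact ⟨h1 w, hcon w⟩
  apply hc
  linear_combination h2 - H.two

/-- an element off `{0, 1}` -/
theorem exists_ne [Finite F] (hcard : 2 < Nat.card F) : ∃ z : F, z ≠ 0 ∧ z ≠ 1 := by
  by_contra hno
  push Not at hno
  have hle : Nat.card F ≤ 2 := by
    classical
    have : Fintype F := Fintype.ofFinite F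
    rw [Nat.card_eq_fintype_card, ← Finset.card_univ]
    calc (Finset.univ : Finset F).card ≤ ({0, 1} : Finset F).card := by
          apply Finset.card_le_card
          intro z _
          by_cases hz : z = 0
          · simp [hz]
          · simp [hno z hz]
      _ ≤ 2 := Finset.card_le_two
  omega

/-- **the quadratic form lemma** -/
theorem exists_quad [Finite F] (H : Good F θ e) (hcard : 2 < Nat.card F) {t : F} (ht : t ≠ 0) :
    ∃ w : F, w ≠ 0 ∧ t * (w * θ w) + w ∉ A θ := by
  by_contra hcon
  push Not at hcon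
  have hall : ∀ w : F, t * (w * θ w) + w ∈ A θ := by
    intro w
    by_cases hw : w = 0
    · rw [hw]
      simp
    · exact hcon w hw
  -- polarise
  have hpol : ∀ w z : F, w * (t * θ z) + t * z * θ w ∈ A θ := by
    intro w z
    have h1 := (A θ).sub_mem ((A θ).sub_mem (hall (w + z)) (hall w)) (hall z)
    have h2 : t * ((w + z) * θ (w + z)) + (w + z) - (t * (w * θ w) + w) - (t * (z * θ z) + z) =
        w * (t * θ z) + t * z * θ w := by
      rw [map_add]; ring
    rwa [h2] at h1
  obtain ⟨s, hs⟩ := theta_surj (θ := θ) t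
  have hlin : ∀ z : F, t * z ^ 2 + s * z = 0 := by
    intro z
    apply eq_zero_of_mul_mem H
    intro w
    have h1 := hpol w (θ z)
    have h2 : t * θ z * θ w = θ (s * z * w) := by rw [map_mul, map_mul, hs]
    rw [H.sq, h2] at h1
    have h3 := add_theta_mem (θ := θ) (s * z * w)
    have h4 := (A θ).add_mem h1 h3
    have h5 : w * (t * z ^ 2) + θ (s * z * w) + (s * z * w + θ (s * z * w)) =
        w * (t * z ^ 2 + s * z) := by
      linear_combination θ (s * z * w) * H.two
    rwa [h5] at h4
  have h1 : s = t := by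
    have := hlin 1
    linear_combination this - t * H.two
  obtain ⟨z, hz0, hz1⟩ := exists_ne (F := F) hcard
  have h2 := hlin z
  rw [h1] at h2
  have h3 : t * z * (z + 1) = 0 := by linear_combination h2
  rcases mul_eq_zero.1 h3 with h4 | h4
  · rcases mul_eq_zero.1 h4 with h5 | h5
    · exact ht h5
    · exact hz0 h5
  · exact hz1 (by linear_combination h4 - H.two)

end Cfsg.Agent.H147.Sz
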